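import Cfsg.Agent.Lib.Lie.MultExc.Tits.Roots

/-!
Part of the check of the root elements.
-/

set_option autoImplicit false
set_option maxRecDepth 100000
set_option maxHeartbeats 0

namespace CfsgLib.Lie.MultExc.Tits

theorem roots_ok1 : ((List.range 4).all fun j => rootOK (4 + j)) = true := by decide +kernel

end CfsgLib.Lie.MultExc.Tits
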