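import Cfsg.Agent.Lib.Lie.MultExc.Tits.Roots0
import Cfsg.Agent.Lib.Lie.MultExc.Tits.Roots1
import Cfsg.Agent.Lib.Lie.MultExc.Tits.Roots2
import Cfsg.Agent.Lib.Lie.MultExc.VecBridge
import Cfsg.Agent.Lib.Lie.MultExc.Bound
import Cfsg.Agent.Lib.Lie.Chev.Tits.Main

/-!
The simple group of index two in the twisted group acts on bit vectors by the tables.
-/

set_option autoImplicit false
set_option maxRecDepth 100000
set_option maxHeartbeats 0

namespace CfsgLib.Lie.MultExc.Tits

open Cfsg.Lie CfsgLib.Lie.Chev CfsgLib.Spor.SchurCert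
open scoped MatrixGroups commutatorElement

/-- The number of listed elements. -/
def eltLen : ℕ := genRoots.length + eltOps.length

/-- The table of an element. -/
def eltTab (k : ℕ) : ℕ := (eltRows.getD (k / 16) []).getD (k % 16) 0

/-- The step of an element on bit vectors. -/
def eltStep (k c : ℕ) : ℕ := nibStep (eltTab k) 13 c

/-- The basis vectors. -/
def unitCodes : List ℕ := (List.range 52).map fun j => 2 ^ j

/-- The checks of one certificate. -/
def titsChecks (C : Cert) (sw gw : List (List ℕ)) (O : List (ℕ × List (ℕ × List ℕ))) : Bool :=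
  identVec eltStep eltLen unitCodes C sw gw && subVecOK (2 ^ 52) eltStep sw [] O &&
    Nat.ble (C.p ^ C.m) (O.map fun e => e.2.length).prod && C.shapeOK

theorem gens_table : genRoots.length = 2 ∧ ((List.range 2).all fun k => tableOK (eltTab k) &&
    ((genRoots.getD k []).all fun i => Nat.blt i 9) &&
    (List.range 52).all fun j => Nat.beq (colOf (eltTab k) j)
      ((genRoots.getD k []).foldr (fun i c => nibStep (rootRows.getD i 0) 13 c) (2 ^ j))) = true := by
  decide +kernel

theorem ops_table : ((List.range eltOps.length).all fun k => tableOK (eltTab (2 + k)) &&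
    Nat.blt (eltOps.getD k (0, 0)).1 (2 + k) && Nat.blt (eltOps.getD k (0, 0)).2 (2 + k) &&
    (List.range 52).all fun j => Nat.beq (colOf (eltTab (2 + k)) j)
      (eltStep (eltOps.getD k (0, 0)).1 (eltStep (eltOps.getD k (0, 0)).2 (2 ^ j)))) = true := by
  decide +kernel

theorem posI_lt (q : chevF4.Idx) : posI q < 52 := by
  rcases q with a | a
  · have : a.1 < 4 := a.2
    show a.1 < 52
    omega
  · have : a.1 < 48 := a.2
    show 4 + a.1 < 52
    omega

theorem posI_injective : Function.Injective posI := by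
  rintro (a | a) (b | b) h <;> have ha := a.2 <;> have hb := b.2 <;> simp only [posI] at h
  · exact congrArg _ (Fin.ext h)
  · have : a.1 < 4 := a.2; omega
  · have : b.1 < 4 := b.2; omega
  · exact congrArg _ (Fin.ext (by omega))

theorem exists_posI {j : ℕ} (hj : j < 52) : ∃ q, posI q = j := by
  rcases Nat.lt_or_ge j 4 with h | h
  · exact ⟨Sum.inl (⟨j, h⟩ : Fin 4), rfl⟩
  · exact ⟨Sum.inr (⟨j - 4, by omega⟩ : Fin 48), by show 4 + (j - 4) = j; omega⟩

theorem vecOf_xor (a b : ℕ) : vecOf (a ^^^ b) = vecOf a + vecOf b := by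
  funext q
  simp only [vecOf, Pi.add_apply, Nat.testBit_xor]
  cases Nat.testBit a (posI q) <;> cases Nat.testBit b (posI q) <;> decide

theorem vecOf_zero : vecOf 0 = 0 := by funext q; simp [vecOf]

theorem vecOf_inj {c d : ℕ} (hc : c < 2 ^ 52) (hd : d < 2 ^ 52) (h : vecOf c = vecOf d) : c = d :=
  Nat.eq_of_testBit_eq fun j => by
    rcases Nat.lt_or_ge j 52 with hj | hj
    · obtain ⟨q, rfl⟩ := exists_posI hj
      have := congrFun h q
      simp only [vecOf] at this
      cases h1 : Nat.testBit c (posI q) <;> cases h2 : Nat.testBit d (posI q) <;> simp [h1, h2] at this ⊢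
    · have e := Nat.pow_le_pow_right (n := 2) (by norm_num) hj
      rw [Nat.testBit_lt_two_pow (lt_of_lt_of_le hc e), Nat.testBit_lt_two_pow (lt_of_lt_of_le hd e)]

theorem vecOf_unit (q : chevF4.Idx) : vecOf (2 ^ posI q) = Pi.single q 1 := by
  funext q'
  simp only [vecOf, Nat.testBit_two_pow, decide_eq_true_eq]
  by_cases h : q' = q
  · subst h; simp
  · rw [if_neg (fun e => h (posI_injective e.symm)), Pi.single_eq_of_ne h]

/-- A matrix acts as a table. -/
def Acts (M : Matrix chevF4.Idx chevF4.Idx (ZMod 2)) (T : ℕ) : Prop :=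
  tableOK T = true ∧ ∀ j < 52, M.mulVec (vecOf (2 ^ j)) = vecOf (colOf T j)

theorem acts_spec {M : Matrix chevF4.Idx chevF4.Idx (ZMod 2)} {T : ℕ} (h : Acts M T) {c : ℕ} (hc : c < 2 ^ 52) :
    M.mulVec (vecOf c) = vecOf (nibStep T 13 c) := by
  rw [nibStep_eq h.1 c 13 le_rfl]
  conv_lhs => rw [← bitXor_self hc]
  show M.mulVec (vecOf (bitXor _ 52 c)) = vecOf (bitXor _ 52 c)
  suffices ∀ n ≤ 52, M.mulVec (vecOf (bitXor (fun j => 2 ^ j) n c)) = vecOf (bitXor (colOf T) n c) from
    this 52 le_rfl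
  intro n
  induction n with
  | zero => intro _; simp [bitXor, vecOf_zero]
  | succ n ih =>
    intro hn
    rw [bitXor, bitXor, vecOf_xor, vecOf_xor, Matrix.mulVec_add, ih (by omega)]
    refine congrArg (fun z => vecOf (bitXor (colOf T) n c) + z) ?_
    split
    · exact h.2 n (by omega)
    · rw [vecOf_zero, Matrix.mulVec_zero]

theorem root_acts {i : ℕ} (hi : i < 9) : rootNums.getD i 0 < 48 ∧
    Acts (chevF4.x (ZMod 2) (rootNums.getD i 0) 1) (rootRows.getD i 0) := by
  have hn : ∀ i : Fin 9, rootNums.getD i.1 0 < 48 := by decide +kernel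
  have hok : rootOK i = true := by
    rcases Nat.lt_or_ge i 4 with h | h
    · have := List.all_eq_true.1 roots_ok0 i (List.mem_range.2 h)
      simpa using this
    rcases Nat.lt_or_ge i 8 with h' | h'
    · have := List.all_eq_true.1 roots_ok1 (i - 4) (List.mem_range.2 (by omega))
      rwa [show 4 + (i - 4) = i by omega] at this
    · obtain rfl : i = 8 := by omega
      exact List.all_eq_true.1 roots_ok2 0 (List.mem_range.2 (by norm_num))
  simp only [rootOK, rootOK.colEq, Bool.and_eq_true, List.all_eq_true, List.mem_finRange, decide_eq_true_eq,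
    forall_const] at hok
  obtain ⟨⟨hT, hl⟩, hr⟩ := hok
  refine ⟨hn ⟨i, hi⟩, hT, fun j hj => ?_⟩
  obtain ⟨q, rfl⟩ := exists_posI hj
  rw [vecOf_unit, Matrix.mulVec_single_one]
  funext p
  rcases q with b | b <;> rcases p with a | a
  · exact (hl b).1 a
  · exact (hl b).2 a
  · exact (hr b).1 a
  · exact (hr b).2 a

/-- The root element in the general linear group. -/
noncomputable def rootGL (i : ℕ) : GL chevF4.Idx (ZMod 2) :=
  if h : rootNums.getD i 0 < 48 then goodF4.xu ⟨rootNums.getD i 0, h⟩ 1 else 1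

theorem rootGL_acts {i : ℕ} (hi : i < 9) :
    Acts (rootGL i : Matrix chevF4.Idx chevF4.Idx (ZMod 2)) (rootRows.getD i 0) := by
  obtain ⟨h, ha⟩ := root_acts hi
  rw [rootGL, dif_pos h]
  have e := goodF4.x_eq_xu (K := ZMod 2) ⟨rootNums.getD i 0, h⟩ 1
  rw [← e]
  exact ha

/-- A word in the root elements. -/
noncomputable def wordGL (l : List ℕ) : GL chevF4.Idx (ZMod 2) := (l.map rootGL).prod

theorem wordGL_append (a b : List ℕ) : wordGL (a ++ b) = wordGL a * wordGL b := by simp [wordGL]

theorem rootGL_inv (i : ℕ) : (rootGL i)⁻¹ = rootGL i := by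
  rw [rootGL]
  split
  · rw [Good.xu_inv, show (-1 : ZMod 2) = 1 by decide]
  · exact inv_one

theorem wordGL_reverse : ∀ l : List ℕ, wordGL l.reverse = (wordGL l)⁻¹
  | [] => by simp [wordGL]
  | a :: l => by
    rw [List.reverse_cons, wordGL_append, wordGL_reverse l, show a :: l = [a] ++ l from rfl, wordGL_append,
      mul_inv_rev]
    refine congrArg (fun z => (wordGL l)⁻¹ * z) ?_
    simp only [wordGL, List.map_cons, List.map_nil, List.prod_cons, List.prod_nil, mul_one, rootGL_inv]

theorem rootGL_val {i : ℕ} (h : rootNums.getD i 0 < 48) :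
    (rootGL i : Matrix chevF4.Idx chevF4.Idx (ZMod 2)) = chevF4.x (ZMod 2) (rootNums.getD i 0) 1 := by
  rw [rootGL, dif_pos h]
  exact (goodF4.x_eq_xu (K := ZMod 2) ⟨_, h⟩ 1).symm

theorem wordGL_val : ∀ (l : List ℕ), (∀ i ∈ l, rootNums.getD i 0 < 48) →
    (wordGL l : Matrix chevF4.Idx chevF4.Idx (ZMod 2)) =
      ((l.map fun i => rootNums.getD i 0).map fun r => chevF4.x (ZMod 2) r 1).prod
  | [], _ => by simp [wordGL]
  | i :: l, h => by
    have ih := wordGL_val l fun j hj => h j (List.mem_cons_of_mem _ hj)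
    have e : wordGL (i :: l) = rootGL i * wordGL l := by
      unfold wordGL
      rw [List.map_cons, List.prod_cons]
    simp only [List.map_cons, List.prod_cons]
    rw [e, Units.val_mul, rootGL_val (h i List.mem_cons_self), ih]

theorem defWord_mem {w : List (ℕ × ZMod 2)} (hw : w ∈ f4Words (ZMod 2) 1) {l : List ℕ}
    (hl : (w.filter fun q => q.2 = 1).map Prod.fst = l.map fun i => rootNums.getD i 0)
    (h48 : ∀ i ∈ l, rootNums.getD i 0 < 48) : wordGL l ∈ twistedF4 (ZMod 2) 1 := by
  refine Subgroup.subset_closure ⟨w, hw, ?_⟩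
  rw [ChevalleyDatum.wordMat]
  have h1 : ((w.map fun q => chevF4.x (ZMod 2) q.1 q.2).prod) =
      (((w.filter fun q => q.2 = 1).map Prod.fst).map fun r => chevF4.x (ZMod 2) r 1).prod := by
    clear hw hl
    induction w with
    | nil => rfl
    | cons q w ih =>
      rcases (show q.2 = 0 ∨ q.2 = 1 by generalize q.2 = t; revert t; decide) with hq | hq
      · rw [List.filter_cons_of_neg (by simp [hq]), List.map_cons, List.prod_cons, ih, hq]
        have hx : chevF4.x (ZMod 2) q.1 (0 : ZMod 2) = 1 := by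
          by_cases hr : q.1 < chevF4.nroots
          · rw [show q.1 = (⟨q.1, hr⟩ : Fin chevF4.nroots).val from rfl, goodF4.x_eq_xu, goodF4.xu_zero, Units.val_one]
          · rw [ChevalleyDatum.x, dif_neg hr]
        rw [hx, one_mul]
      · rw [List.filter_cons_of_pos (by simp [hq]), List.map_cons, List.map_cons, List.map_cons, List.prod_cons,
          List.prod_cons, ih, hq]
  rw [h1, hl]
  exact wordGL_val l h48

/-- The simple group. -/
abbrev TG : Type := TitsGroup

/-- The matrix of an element. -/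
noncomputable def matT (g : TG) : Matrix chevF4.Idx chevF4.Idx (ZMod 2) :=
  (((g : ↥(twistedF4 (ZMod 2) 1)) : GL chevF4.Idx (ZMod 2)) : Matrix chevF4.Idx chevF4.Idx (ZMod 2))

theorem exists_genElt : ∀ k < 2, ∃ g : TG, Acts (matT g) (eltTab k) := by
  intro k hk
  obtain ⟨-, hall⟩ := gens_table
  simp only [List.all_eq_true, List.mem_range, Bool.and_eq_true] at hall
  obtain ⟨⟨hT, hlt⟩, hcol⟩ := hall k hk
  obtain ⟨a, b, hab, ha, hb⟩ : ∃ a b : List ℕ, genRoots.getD k [] = a ++ b ++ a.reverse ++ b.reverse ∧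
      wordGL a ∈ twistedF4 (ZMod 2) 1 ∧ wordGL b ∈ twistedF4 (ZMod 2) 1 := by
    rcases (show k = 0 ∨ k = 1 by omega) with rfl | rfl
    · exact ⟨[6, 5, 7], [8, 4], rfl,
        defWord_mem (w := b2ClassWord 1 f4a f4b f4ab f4aab (1 : ZMod 2) 1)
          (Or.inr ⟨1, 1, Or.inl rfl⟩) (by decide +kernel) (by decide +kernel),
        defWord_mem (w := f4PairWord 1 f4p1 f4p4 (1 : ZMod 2))
          (Or.inl ⟨1, Or.inl rfl⟩) (by decide +kernel) (by decide +kernel)⟩
    · exact ⟨[2, 1], [0, 3], rfl,
        defWord_mem (w := b2ClassWord 1 f4ma f4mb f4mab f4maab (0 : ZMod 2) 1)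
          (Or.inr ⟨0, 1, Or.inr rfl⟩) (by decide +kernel) (by decide +kernel),
        defWord_mem (w := f4PairWord 1 f4m1 f4m4 (1 : ZMod 2))
          (Or.inl ⟨1, Or.inr rfl⟩) (by decide +kernel) (by decide +kernel)⟩
  refine ⟨⟨⁅(⟨_, ha⟩ : ↥(twistedF4 (ZMod 2) 1)), ⟨_, hb⟩⁆,
    Subgroup.commutator_mem_commutator (Subgroup.mem_top _) (Subgroup.mem_top _)⟩, hT, fun j hj => ?_⟩
  have e : matT ⟨⁅(⟨_, ha⟩ : ↥(twistedF4 (ZMod 2) 1)), ⟨_, hb⟩⁆,
      Subgroup.commutator_mem_commutator (Subgroup.mem_top _) (Subgroup.mem_top _)⟩ =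
      (wordGL (genRoots.getD k []) : Matrix chevF4.Idx chevF4.Idx (ZMod 2)) := by
    rw [hab, wordGL_append, wordGL_append, wordGL_append, wordGL_reverse, wordGL_reverse]
    simp only [matT, commutatorElement_def, Subgroup.coe_mul, Subgroup.coe_inv]
  rw [e, Nat.eq_of_beq_eq_true (hcol j hj)]
  have h9 : ∀ i ∈ genRoots.getD k [], i < 9 := fun i hi => Nat.le_of_ble_eq_true (hlt i hi)
  clear e hcol hlt hab ha hb
  generalize genRoots.getD k [] = l at h9
  suffices ∀ l : List ℕ, (∀ i ∈ l, i < 9) →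
      l.foldr (fun i c => nibStep (rootRows.getD i 0) 13 c) (2 ^ j) < 2 ^ 52 ∧
        (wordGL l : Matrix chevF4.Idx chevF4.Idx (ZMod 2)).mulVec (vecOf (2 ^ j)) =
          vecOf (l.foldr (fun i c => nibStep (rootRows.getD i 0) 13 c) (2 ^ j)) from (this l h9).2
  intro l
  induction l with
  | nil => intro _; exact ⟨Nat.pow_lt_pow_right (by norm_num) hj, by simp [wordGL]⟩
  | cons i l ih =>
    intro h
    obtain ⟨h1, h2⟩ := ih fun q hq => h q (List.mem_cons_of_mem _ hq)
    have ha := rootGL_acts (h i List.mem_cons_self)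
    refine ⟨nibStep_lt ha.1 _, ?_⟩
    rw [show wordGL (i :: l) = rootGL i * wordGL l by simp [wordGL], Units.val_mul, ← Matrix.mulVec_mulVec, h2,
      acts_spec ha h1, List.foldr_cons]

theorem exists_elt : ∀ k < eltLen, ∃ g : TG, Acts (matT g) (eltTab k) := by
  intro k
  induction k using Nat.strong_induction_on with
  | _ k ih =>
    intro hk
    rcases Nat.lt_or_ge k 2 with h | h
    · exact exists_genElt k h
    obtain ⟨d, rfl⟩ := Nat.exists_eq_add_of_le h
    have hd : d < eltOps.length := by rw [eltLen, gens_table.1] at hk; omega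
    have h' := ops_table
    simp only [List.all_eq_true, List.mem_range, Bool.and_eq_true] at h'
    obtain ⟨⟨⟨hT, ha⟩, hb⟩, hcol⟩ := h' d hd
    have hla : (eltOps.getD d (0, 0)).1 < 2 + d := Nat.le_of_ble_eq_true ha
    have hlb : (eltOps.getD d (0, 0)).2 < 2 + d := Nat.le_of_ble_eq_true hb
    obtain ⟨A, hA⟩ := ih _ hla (lt_trans hla hk)
    obtain ⟨B, hB⟩ := ih _ hlb (lt_trans hlb hk)
    refine ⟨A * B, hT, fun j hj => ?_⟩
    have hj' : 2 ^ j < 2 ^ 52 := Nat.pow_lt_pow_right (by norm_num) hj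
    rw [show matT (A * B) = matT A * matT B by simp [matT], ← Matrix.mulVec_mulVec, acts_spec hB hj',
      acts_spec hA (nibStep_lt hB.1 _), Nat.eq_of_beq_eq_true (hcol j hj)]
    rfl

/-- The action on the module. -/
noncomputable local instance actTG : MulAction TG (chevF4.Idx → ZMod 2) where
  smul g v := (matT g).mulVec v
  one_smul v := by
    show (matT 1).mulVec v = v
    simp [matT]
  mul_smul g h v := by
    show (matT (g * h)).mulVec v = (matT g).mulVec ((matT h).mulVec v)
    rw [Matrix.mulVec_mulVec]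
    simp [matT]

theorem card_TG : Nat.card TG = 17971200 := by
  have h := Chev.Tits.main.2.2.2.1
  have h2 : Nat.card ↥Chev.Tits.Γ = 35942400 := Chev.Tits.card_facts.2.2
  show Nat.card ↥(commutator ↥Chev.Tits.Γ) = _
  omega

theorem finite_TG : Finite TG := Nat.finite_of_card_ne_zero (by rw [card_TG]; norm_num)

/-- The bound at one prime. -/
theorem tits_part_le {Δ : Type*} [Group Δ] [Finite Δ] {τ : Δ →* TG} (hτ : Cfsg.IsStemExtension τ) (C : Cert)
    (hp : C.p.Prime) (hN : C.N = C.p) (hb : C.bound = 1) {r : ℕ} (hr : ¬ C.p ∣ r)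
    (hord : 17971200 = C.p ^ C.m * r) {sw gw : List (List ℕ)} {O : List (ℕ × List (ℕ × List ℕ))}
    (hchk : titsChecks C sw gw O = true) (hlin : C.linOK = true) (P : Subgroup Δ) (hP : P ≤ τ.ker)
    (hPp : IsPGroup C.p P) : Nat.card P ≤ 1 := by
  haveI : Fact C.p.Prime := ⟨hp⟩
  haveI := finite_TG
  simp only [titsChecks, Bool.and_eq_true] at hchk
  obtain ⟨⟨⟨hid, hsub⟩, hT⟩, hshape⟩ := hchk
  choose g hg using exists_elt
  let gs : ℕ → TG := fun k => if h : k < eltLen then g k h else 1
  have K : Coded (G := TG) vecOf (2 ^ 52) gs eltLen eltStep unitCodes :=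
    { step_lt := fun k hk c _ => nibStep_lt (hg k hk).1 c
      step_spec := fun k hk c hc => by
        show (matT (gs k)).mulVec (vecOf c) = _
        rw [show gs k = g k hk from dif_pos hk]
        exact acts_spec (hg k hk) hc
      inj := fun c hc d hd h => vecOf_inj hc hd h
      base_lt := fun u hu => by
        obtain ⟨j, hj, rfl⟩ := List.mem_map.1 hu
        exact Nat.pow_lt_pow_right (by norm_num) (List.mem_range.1 hj)
      faithful := fun x hx => by
        refine Subtype.ext (Subtype.ext (Units.ext ?_))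
        show matT x = 1
        refine Matrix.ext fun p q => ?_
        have h := congrFun (hx (2 ^ posI q) (List.mem_map.2 ⟨_, List.mem_range.2 (posI_lt q), rfl⟩)) p
        change (matT x).mulVec (vecOf (2 ^ posI q)) p = vecOf (2 ^ posI q) p at h
        rw [vecOf_unit, Matrix.mulVec_single_one] at h
        exact h.trans (by simp [Matrix.one_apply, Pi.single_apply]) }
  have hfac : (Nat.card TG).factorization C.p = C.m := by
    have hr0 : r ≠ 0 := by rintro rfl; simp at hr
    rw [card_TG, hord, Nat.factorization_mul (pow_ne_zero _ hp.ne_zero) hr0, Finsupp.add_apply,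
      Nat.Prime.factorization_pow hp, Finsupp.single_eq_same, Nat.factorization_eq_zero_of_not_dvd hr, add_zero]
  obtain ⟨γ, conj, h1, h2, h3, h4⟩ := vec_facts K C sw gw O hfac hid hsub (Nat.le_of_ble_eq_true hT) hshape
  rw [← hb]
  exact pGroup_card_le C hτ (e := 1) (by rw [pow_one, hN]) (by rw [hb, hN]; exact hp.one_lt) γ conj h1 h2 hshape
    hlin h3 h4 P hP hPp

end CfsgLib.Lie.MultExc.Tits
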