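import Cfsg.Agent.Lib.Lie.MultExc.Monomial

/-!
Linear maps of bit vectors by tables of four bits at a time.
-/

set_option autoImplicit false

namespace CfsgLib.Lie.MultExc.Tits

/-- The sum of the values at the set bits below a bound. -/
def bitXor (e : ℕ → ℕ) : ℕ → ℕ → ℕ
  | 0, _ => 0
  | j + 1, c => bitXor e j c ^^^ (if Nat.testBit c j then e j else 0)

/-- The image of a bit vector under a table. -/
def nibStep (T : ℕ) : ℕ → ℕ → ℕ
  | 0, _ => 0
  | i + 1, c => nibStep T i c ^^^ unp 52 T (16 * i + ((c >>> (4 * i)) &&& 15))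

/-- The value of a table at a basis vector. -/
def colOf (T j : ℕ) : ℕ := unp 52 T (16 * (j / 4) + 2 ^ (j % 4))

/-- The table is linear. -/
def tableOK (T : ℕ) : Bool :=
  (List.range 13).all fun i => (List.range 16).all fun q =>
    Nat.beq (unp 52 T (16 * i + q)) (bitXor (fun b => unp 52 T (16 * i + 2 ^ b)) 4 q)

theorem nibStep_eq {T : ℕ} (h : tableOK T = true) (c : ℕ) : ∀ i ≤ 13, nibStep T i c = bitXor (colOf T) (4 * i) c
  | 0, _ => rfl
  | i + 1, hi => by
    have ih := nibStep_eq h c i (by omega)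
    simp only [tableOK, List.all_eq_true, List.mem_range] at h
    have hq : (c >>> (4 * i)) &&& 15 < 16 := Nat.lt_succ_of_le Nat.and_le_right
    have h1 := Nat.eq_of_beq_eq_true (h i (by omega) _ hq)
    have hb : ∀ b < 4, Nat.testBit ((c >>> (4 * i)) &&& 15) b = Nat.testBit c (4 * i + b) := fun b hb => by
      rw [Nat.testBit_and, Nat.testBit_shiftRight, show (15 : ℕ) = 2 ^ 4 - 1 from rfl, Nat.testBit_two_pow_sub_one,
        decide_eq_true hb, Bool.and_true]
    have hc : ∀ b < 4, colOf T (4 * i + b) = unp 52 T (16 * i + 2 ^ b) := fun b hb => by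
      rw [colOf, show (4 * i + b) / 4 = i by omega, show (4 * i + b) % 4 = b by omega]
    rw [nibStep, h1, ih, show 4 * (i + 1) = 4 * i + 1 + 1 + 1 + 1 by ring]
    simp only [bitXor, Nat.zero_xor, hb 0 (by norm_num), hb 1 (by norm_num), hb 2 (by norm_num), hb 3 (by norm_num),
      Nat.add_zero, ← hc 0 (by norm_num), ← hc 1 (by norm_num), ← hc 2 (by norm_num), ← hc 3 (by norm_num),
      Nat.add_assoc, Nat.xor_assoc, Nat.reduceAdd]

theorem bitXor_lt {e : ℕ → ℕ} {N : ℕ} (he : ∀ j, e j < 2 ^ N) : ∀ j c, bitXor e j c < 2 ^ N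
  | 0, c => Nat.two_pow_pos N
  | j + 1, c => Nat.xor_lt_two_pow (bitXor_lt he j c) (by split <;> [exact he j; exact Nat.two_pow_pos N])

theorem colOf_lt (T j : ℕ) : colOf T j < 2 ^ 52 := by
  rw [colOf, unp]
  exact lt_of_le_of_lt Nat.and_le_right (by norm_num)

theorem nibStep_lt {T : ℕ} (h : tableOK T = true) (c : ℕ) : nibStep T 13 c < 2 ^ 52 := by
  rw [nibStep_eq h c 13 le_rfl]
  exact bitXor_lt (colOf_lt T) _ c

theorem testBit_bitXor_self (c k : ℕ) : ∀ n, Nat.testBit (bitXor (fun j => 2 ^ j) n c) k =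
    (decide (k < n) && Nat.testBit c k)
  | 0 => by simp [bitXor]
  | n + 1 => by
    rw [bitXor, Nat.testBit_xor, testBit_bitXor_self c k n]
    rcases Nat.lt_trichotomy k n with hk | rfl | hk
    · have hz : Nat.testBit (if Nat.testBit c n then 2 ^ n else 0) k = false := by
        split
        · rw [Nat.testBit_two_pow]; exact decide_eq_false (by omega)
        · simp
      rw [hz, decide_eq_true hk, decide_eq_true (Nat.lt_succ_of_lt hk)]
      simp
    · cases hc : Nat.testBit c k <;> simp [hc, Nat.testBit_two_pow]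
    · have hz : Nat.testBit (if Nat.testBit c n then 2 ^ n else 0) k = false := by
        split
        · rw [Nat.testBit_two_pow]; exact decide_eq_false (by omega)
        · simp
      rw [hz, decide_eq_false (show ¬ k < n by omega), decide_eq_false (show ¬ k < n + 1 by omega)]
      simp

theorem bitXor_self {c n : ℕ} (hc : c < 2 ^ n) : bitXor (fun j => 2 ^ j) n c = c :=
  Nat.eq_of_testBit_eq fun k => by
    rw [testBit_bitXor_self]
    rcases Nat.lt_or_ge k n with hk | hk
    · simp [hk]
    · simp [Nat.testBit_lt_two_pow (lt_of_lt_of_le hc (Nat.pow_le_pow_right (by norm_num) hk))]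

end CfsgLib.Lie.MultExc.Tits
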