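import Cfsg.Agent.Lib.Lie.MultExc.Tits.Action

/-!
The certificate at the prime 3: a polycyclic sequence of a Sylow subgroup and conjugations.
-/

set_option autoImplicit false
set_option maxRecDepth 100000
set_option maxHeartbeats 0

namespace CfsgLib.Lie.MultExc.Tits.P3

open CfsgLib.Spor.SchurCert

/-- The Sylow elements. -/
def sw : List (List ℕ) := [
    [238, 274, 292, 319],
    [179, 266, 292, 320],
    [219, 266, 251, 318]]

/-- The conjugating elements. -/
def gw : List (List ℕ) := [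
    [226, 281, 4, 318],
    [172, 270, 254, 279, 311]]

/-- The certificate. -/
def cert : CfsgLib.Spor.SchurCert.Cert where
  p := 3
  m := 3
  N := 3
  rules := [
    ([0, 0, 0], []),
    ([1, 1, 1], []),
    ([2, 2, 2], []),
    ([1, 0], [0, 1, 2, 2]),
    ([2, 0], [0, 2]),
    ([2, 1], [1, 2])]
  maps := [
    [([0], [0, 1, 2, 2]), ([1], [1, 1]), ([2], [2, 2])],
    [([0], [0, 0, 2, 2]), ([1], [0, 0, 1]), ([2], [2, 2])]]
  overlaps := [
    ([1, 1, 1, 0], [(1, 0)], [(3, 2), (3, 1), (3, 0), (5, 3), (5, 2), (2, 3), (5, 3), (1, 1), (2, 1)])]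
  fuses := [
    ⟨0, [0, 0, 0], [], [(0, 0)], [], [(4, 3), (4, 2), (3, 1), (2, 3), (5, 3), (2, 4), (3, 3), (3, 2), (0, 0), (5, 2), (5, 1), (2, 2), (5, 2), (1, 0), (2, 0)], []⟩,
    ⟨0, [2, 0], [0, 2], [(4, 0)], [], [(4, 1), (4, 0), (5, 2), (5, 1), (2, 2)], [(2, 2)]⟩,
    ⟨1, [0, 0, 0], [], [(0, 0)], [], [(4, 3), (4, 2), (0, 0), (4, 1), (4, 0), (2, 1), (4, 1), (4, 2), (0, 0), (2, 0)], []⟩,
    ⟨1, [1, 1, 1], [], [(1, 0)], [], [(3, 2), (0, 0), (4, 2), (4, 1), (3, 0), (2, 2), (5, 2), (4, 3), (3, 2), (3, 1), (5, 4), (5, 3), (2, 4), (4, 5), (4, 4), (3, 3), (3, 2), (0, 0), (5, 2), (5, 1), (2, 2), (2, 2), (1, 0)], []⟩]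
  adj := [
    [],
    [],
    [(3, 2)]]
  base := []
  dense := [
    [0, 0, 1],
    [0, 2, 2, 0, 1, 2],
    [0, 0, 0, 0, 2, 1],
    [2, 0, 1],
    [1, 0, 2, 0, 1, 1]]
  tgt := [
    ([], [(0, 1), (3, 2)]),
    ([], [(0, 2), (1, 2), (2, 2)]),
    ([], [(0, 1)]),
    ([], []),
    ([], [(2, 1), (3, 2), (4, 2)]),
    ([], [(2, 2), (3, 2), (4, 2)])]

/-- Orbits inside the subgroup. -/
def orbits : List (ℕ × List (ℕ × List ℕ)) := [
    (16, [(16, []), (71469676317631, [1, 1, 2, 2]), (114142547968515, [0, 0, 1, 1, 2]), (1125917086711808, [0, 0, 1, 1]), (1128189695140112, [0, 1, 2, 2]), (1145813556597805, [1, 1, 2]), (1172240061615313, [2]), (1172858413776902, [0, 1, 2]), (1641605498994733, [0, 0, 2, 2]), (1664111949137965, [1, 2, 2]), (1686756314703366, [0, 2, 2]), (1950637447992946, [0, 0, 2]), (2068272640033295, [2, 2]), (2092902798784224, [0, 2]), (2100149120176824, [1, 2]), (2490390077497457, [0, 1]), (2593025525251890, [0]), (2743685350183979,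 [0, 0, 1, 2, 2]), (3014750550570863, [0, 1, 1, 2]), (3095733905679228, [0, 0, 1]), (3152766186815494, [0, 0]), (3379349259552813, [1, 1]), (3395390825333909, [0, 0, 1, 2]), (3518558410638707, [0, 1, 1]), (3633059011648556, [0, 1, 1, 2, 2]), (3658395734404316, [1]), (4491127390013475, [0, 0, 1, 1, 2, 2])])]

theorem checks : titsChecks cert sw gw orbits = true := by decide +kernel

theorem lin_ok : cert.linOK = true := by decide +kernel

end CfsgLib.Lie.MultExc.Tits.P3
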