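import Cfsg.Agent.Lib.Lie.MultExc.Tits.Action

/-!
The certificate at the prime 5: a polycyclic sequence of a Sylow subgroup and conjugations.
-/

set_option autoImplicit false
set_option maxRecDepth 100000
set_option maxHeartbeats 0

namespace CfsgLib.Lie.MultExc.Tits.P5

open CfsgLib.Spor.SchurCert

/-- The Sylow elements. -/
def sw : List (List ℕ) := [
    [177, 268, 250, 282, 311],
    [146, 270, 4, 282, 311]]

/-- The conjugating elements. -/
def gw : List (List ℕ) := [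
    [70, 266, 255, 290, 304, 317],
    [224, 1, 254, 290, 319]]

/-- The certificate. -/
def cert : CfsgLib.Spor.SchurCert.Cert where
  p := 5
  m := 2
  N := 5
  rules := [
    ([0, 0, 0, 0, 0], []),
    ([1, 1, 1, 1, 1], []),
    ([1, 0], [0, 1])]
  maps := [
    [([0], [0]), ([1], [0, 0, 0, 0, 1, 1, 1, 1])],
    [([0], [0, 0, 0, 0, 1, 1, 1]), ([1], [0, 1])]]
  overlaps := []
  fuses := [
    ⟨0, [1, 0], [0, 1], [(2, 0)], [], [(2, 7), (2, 6), (2, 5), (2, 4), (0, 0)], [(0, 0)]⟩,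
    ⟨0, [1, 1, 1, 1, 1], [], [(1, 0)], [], [(2, 7), (2, 6), (2, 5), (2, 4), (0, 0), (2, 3), (2, 2), (2, 1), (2, 0), (2, 4), (2, 3), (2, 2), (2, 1), (2, 5), (2, 4), (2, 3), (2, 2), (1, 3), (2, 5), (2, 4), (2, 3), (2, 6), (2, 5), (2, 4), (0, 0), (2, 2), (2, 1), (2, 0), (2, 3), (2, 2), (2, 1), (1, 2), (2, 3), (2, 2), (2, 4), (2, 3), (2, 5), (2, 4), (0, 0), (2, 1), (2, 0), (1, 1), (2, 1), (2, 2), (2, 3), (2, 4), (0, 0), (1, 0)], []⟩,
    ⟨1, [0, 0, 0, 0, 0], [], [(0, 0)], [], [(2, 6), (2, 5), (2, 4), (0, 0), (2, 2), (2, 1), (2, 0), (2, 3), (2, 2), (2, 1), (2, 4), (2, 3), (2, 2), (1, 3), (2, 3), (2, 4), (0, 0), (2, 0), (2, 1), (2, 5), (2, 4), (2, 3), (2, 2), (2, 6), (2, 5), (2, 4), (2, 3), (2, 7), (2, 6), (2, 5), (2, 4), (0, 0), (2, 3), (2, 2), (2, 1), (2, 0), (1, 1), (2, 2), (2, 1), (2, 3), (2, 2), (2, 4), (2, 3), (2, 5), (2, 4), (0, 0), (1, 0)], []⟩]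
  adj := [
    [],
    []]
  base := []
  dense := [
    [0, 0, 2],
    [1, 2],
    [2, 2]]
  tgt := [
    ([], [(1, 4), (2, 1)]),
    ([], [(1, 1), (2, 2)]),
    ([], [(0, 3)])]

/-- Orbits inside the subgroup. -/
def orbits : List (ℕ × List (ℕ × List ℕ)) := [
    (16, [(16, []), (3700576, [0, 0, 1, 1]), (24422955890, [0, 0, 0, 1, 1, 1]), (112478932239279, [0, 1, 1]), (1619172763640415, [0, 0, 0, 0, 1, 1, 1]), (1619187706401051, [0]), (1903245399126486, [0, 0, 0, 0]), (2491480723135207, [0, 1]), (2779566492352597, [0, 0]), (2995295029061129, [0, 1, 1, 1, 1]), (3207540064597871, [0, 0, 0, 1, 1, 1, 1]), (3237090907127810, [0, 1, 1, 1]), (3254095085713873, [0, 0, 0, 1, 1]), (3332271286141856, [1, 1, 1]), (3388197446208477, [0, 0, 0, 0, 1, 1]), (3484955624181613, [1, 1]), (3711392178473753, [0, 0, 0, 0, 1]), (3718445102179676, [0, 0, 1]), (3759532158024948, [1]), (3835152186214102, [0, 0, 0]), (4057422118811490, [0, 0,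 0, 0, 1, 1, 1, 1]), (4146612821360531, [0, 0, 1, 1, 1]), (4170517365624369, [0, 0, 1, 1, 1, 1]), (4265759121342470, [1, 1, 1, 1]), (4306852888593314, [0, 0, 0, 1])])]

theorem checks : titsChecks cert sw gw orbits = true := by decide +kernel

theorem lin_ok : cert.linOK = true := by decide +kernel

end CfsgLib.Lie.MultExc.Tits.P5
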