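import Cfsg.Agent.Lib.Lie.MultExc.Tits.P2
import Cfsg.Agent.Lib.Lie.MultExc.Tits.P3
import Cfsg.Agent.Lib.Lie.MultExc.Tits.P5

/-!
The Schur multiplier of the Tits group is trivial.
-/

set_option autoImplicit false
set_option maxRecDepth 100000

namespace CfsgLib.Lie.MultExc.Tits

open CfsgLib.Spor.SchurCert

theorem cert_facts : (P2.cert.p = 2 ∧ P2.cert.N = 2 ∧ P2.cert.bound = 1 ∧ P2.cert.m = 11) ∧
    (P3.cert.p = 3 ∧ P3.cert.N = 3 ∧ P3.cert.bound = 1 ∧ P3.cert.m = 3) ∧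
    (P5.cert.p = 5 ∧ P5.cert.N = 5 ∧ P5.cert.bound = 1 ∧ P5.cert.m = 2) := by
  decide +kernel

theorem tits_ker_dvd {Δ : Type*} [Group Δ] [Finite Δ] (τ : Δ →* TG) (hτ : Cfsg.IsStemExtension τ) :
    Nat.card τ.ker ∣ 1 := by
  obtain ⟨⟨hp, hN, hb, hm⟩, ⟨hp', hN', hb', hm'⟩, ⟨hp'', hN'', hb'', hm''⟩⟩ := cert_facts
  haveI := finite_TG
  refine card_dvd_of_parts τ.ker one_ne_zero fun ℓ hℓ P hP hPp => le_trans ?_ (Nat.one_le_pow _ _ hℓ.pos)
  by_cases h2 : ℓ = 2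
  · subst h2
    exact tits_part_le hτ P2.cert (by rw [hp]; norm_num) (by rw [hp, hN]) hb (r := 8775) (by rw [hp]; norm_num)
      (by rw [hp, hm]; norm_num) P2.checks P2.lin_ok P hP (by rw [hp]; exact hPp)
  by_cases h3 : ℓ = 3
  · subst h3
    exact tits_part_le hτ P3.cert (by rw [hp']; norm_num) (by rw [hp', hN']) hb' (r := 665600) (by rw [hp']; norm_num)
      (by rw [hp', hm']; norm_num) P3.checks P3.lin_ok P hP (by rw [hp']; exact hPp)
  by_cases h5 : ℓ = 5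
  · subst h5
    exact tits_part_le hτ P5.cert (by rw [hp'']; norm_num) (by rw [hp'', hN'']) hb'' (r := 718848) (by rw [hp'']; norm_num)
      (by rw [hp'', hm'']; norm_num) P5.checks P5.lin_ok P hP (by rw [hp'']; exact hPp)
  haveI : Fact ℓ.Prime := ⟨hℓ⟩
  have h1 : ¬ ℓ ∣ Nat.card τ.ker := by
    by_cases h13 : ℓ = 13
    · subst h13
      obtain ⟨x, hx⟩ := exists_prime_orderOf_dvd_card' (G := TG) 13 (by rw [card_TG]; norm_num)
      refine Lie.Mult.not_dvd_ker_of_cyclic hτ (Subgroup.zpowers x) fun hd => ?_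
      have h := (Subgroup.zpowers x).card_mul_index
      rw [Nat.card_zpowers, hx, card_TG] at h
      omega
    · refine Lie.Mult.not_dvd_ker_of_cyclic hτ ⊥ ?_
      rw [Subgroup.index_bot, card_TG, show (17971200 : ℕ) = 2 ^ 11 * (3 ^ 3 * (5 ^ 2 * 13)) by norm_num]
      intro hd
      rcases hℓ.dvd_mul.1 hd with h | h
      · exact h2 ((Nat.prime_dvd_prime_iff_eq hℓ Nat.prime_two).1 (hℓ.dvd_of_dvd_pow h))
      rcases hℓ.dvd_mul.1 h with h | h
      · exact h3 ((Nat.prime_dvd_prime_iff_eq hℓ Nat.prime_three).1 (hℓ.dvd_of_dvd_pow h))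
      rcases hℓ.dvd_mul.1 h with h | h
      · exact h5 ((Nat.prime_dvd_prime_iff_eq hℓ (by norm_num)).1 (hℓ.dvd_of_dvd_pow h))
      · exact h13 ((Nat.prime_dvd_prime_iff_eq hℓ (by norm_num)).1 h)
  obtain ⟨k, hk⟩ := IsPGroup.iff_card.1 hPp
  have h := Subgroup.card_dvd_of_le hP
  rw [hk] at h ⊢
  cases k with
  | zero => simp
  | succ k => exact absurd ((dvd_pow_self ℓ (Nat.succ_ne_zero k)).trans h) h1

theorem multiplier_Tits : Cfsg.HasCyclicSchurMultiplier Cfsg.Lie.TitsGroup 1 := by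
  haveI := finite_TG
  exact CfsgLib.Schur.hasCyclic_one_of_ker_eq_bot fun Δ _ _ σ hσ =>
    σ.ker.eq_bot_of_card_eq (Nat.dvd_one.1 (tits_ker_dvd σ hσ))

end CfsgLib.Lie.MultExc.Tits
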