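import Cfsg.Agent.Lib.Lie.MultExc.Tits.Action

/-!
The certificate at the prime 2: a polycyclic sequence of a Sylow subgroup and conjugations.
-/

set_option autoImplicit false
set_option maxRecDepth 100000
set_option maxHeartbeats 0

namespace CfsgLib.Lie.MultExc.Tits.P2

open CfsgLib.Spor.SchurCert

/-- The Sylow elements. -/
def sw : List (List ℕ) := [
    [227, 268, 4, 292, 304, 318],
    [237, 280, 253, 292, 319],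
    [216, 280, 251, 260, 304, 321],
    [220, 264, 251, 279, 321],
    [151, 270, 254, 279, 317],
    [164, 255, 304, 317],
    [63, 274, 255, 292, 304, 317],
    [199, 272, 253, 293, 304, 317],
    [134, 266, 254, 279, 311],
    [236, 264, 252, 293, 304, 319],
    [203, 280, 251, 290, 318]]

/-- The conjugating elements. -/
def gw : List (List ℕ) := [
    [228, 1, 295, 304, 316],
    [223, 266, 282, 316]]

/-- The certificate. -/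
def cert : CfsgLib.Spor.SchurCert.Cert where
  p := 2
  m := 11
  N := 2
  rules := [
    ([0, 0], [4, 6, 9, 10]),
    ([1, 1], [5, 6, 8, 9, 10]),
    ([2, 2], [3, 4, 6, 8, 9]),
    ([3, 3], [8, 9]),
    ([4, 4], []),
    ([5, 5], [8]),
    ([6, 6], []),
    ([7, 7], []),
    ([8, 8], []),
    ([9, 9], []),
    ([10, 10], []),
    ([1, 0], [0, 1, 2, 4, 5, 7, 8, 9, 10]),
    ([2, 0], [0, 2, 3, 4, 5, 7, 8, 9, 10]),
    ([2, 1], [1, 2, 3, 4, 5, 7, 8, 9, 10]),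
    ([3, 0], [0, 3, 7, 8, 9]),
    ([3, 1], [1, 3, 5, 6]),
    ([3, 2], [2, 3, 6, 8, 9, 10]),
    ([4, 0], [0, 4]),
    ([4, 1], [1, 4, 5, 6, 8, 9]),
    ([4, 2], [2, 4, 6]),
    ([4, 3], [3, 4, 8, 9]),
    ([5, 0], [0, 5, 6, 7, 10]),
    ([5, 1], [1, 5, 7]),
    ([5, 2], [2, 5, 7, 8, 9, 10]),
    ([5, 3], [3, 5, 8, 9, 10]),
    ([5, 4], [4, 5, 8, 9]),
    ([6, 0], [0, 6]),
    ([6, 1], [1, 6, 7]),
    ([6, 2], [2, 6, 8, 9]),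
    ([6, 3], [3, 6, 10]),
    ([6, 4], [4, 6]),
    ([6, 5], [5, 6, 9]),
    ([7, 0], [0, 7, 8]),
    ([7, 1], [1, 7, 9]),
    ([7, 2], [2, 7, 9]),
    ([7, 3], [3, 7, 9, 10]),
    ([7, 4], [4, 7, 9, 10]),
    ([7, 5], [5, 7, 10]),
    ([7, 6], [6, 7]),
    ([8, 0], [0, 8, 9, 10]),
    ([8, 1], [1, 8, 10]),
    ([8, 2], [2, 8, 10]),
    ([8, 3], [3, 8]),
    ([8, 4], [4, 8]),
    ([8, 5], [5, 8]),
    ([8, 6], [6, 8]),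
    ([8, 7], [7, 8]),
    ([9, 0], [0, 9]),
    ([9, 1], [1, 9, 10]),
    ([9, 2], [2, 9]),
    ([9, 3], [3, 9]),
    ([9, 4], [4, 9]),
    ([9, 5], [5, 9]),
    ([9, 6], [6, 9]),
    ([9, 7], [7, 9]),
    ([9, 8], [8, 9]),
    ([10, 0], [0, 10]),
    ([10, 1], [1, 10]),
    ([10, 2], [2, 10]),
    ([10, 3], [3, 10]),
    ([10, 4], [4, 10]),
    ([10, 5], [5, 10]),
    ([10, 6], [6, 10]),
    ([10, 7], [7, 10]),
    ([10, 8], [8, 10]),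
    ([10, 9], [9, 10])]
  maps := [
    [([1, 4], [1, 2, 5, 8, 10]), ([2, 4], [1, 4, 6, 10]), ([3, 4], [8, 10]), ([5], [2, 3, 6, 9, 10]), ([6], [1, 3, 5, 6, 7, 9]), ([7], [7]), ([8], [3, 4, 10]), ([9], [3, 4, 7, 8, 9]), ([10], [10])],
    [([0, 2, 5], [0, 2, 4, 6, 8]), ([3], [0, 2, 3, 4, 7, 8, 10]), ([4, 5, 7], [4, 5, 7]), ([6, 7], [4, 5, 6, 9]), ([8], [4, 5, 7, 8, 9]), ([9], [9]), ([10], [4, 5, 6, 8, 10])]]
  overlaps := [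
    ([0, 0, 0], [(0, 0), (56, 3), (47, 2), (26, 1), (17, 0)], [(0, 1)]),
    ([1, 1, 1], [(1, 0), (57, 4), (48, 3), (40, 2), (27, 1), (22, 0), (38, 2), (7, 3), (65, 4), (10, 5)], [(1, 1)]),
    ([1, 1, 0], [(1, 0), (56, 4), (47, 3), (39, 2), (26, 1), (21, 0), (62, 4), (38, 3), (6, 2), (64, 3), (65, 4), (10, 5), (9, 4)], [(11, 1), (11, 0), (57, 8), (48, 7), (40, 6), (33, 5), (22, 4), (18, 3), (13, 2), (1, 1), (58, 5), (49, 4), (41, 3), (28, 2), (23, 1), (62, 6), (53, 5), (45, 4), (38, 3), (64, 7), (55, 6), (8, 5), (65, 6), (9, 5), (64, 5), (10, 6), (59, 7), (50, 6), (42, 5), (35, 4), (29, 3), (24, 2), (62, 6), (53, 5), (45, 4), (10, 7), (54, 6), (46, 5), (9, 7), (64, 7), (8, 6), (65, 6), (10, 7), (51, 6), (36, 5), (30, 4), (25, 3), (53, 6), (45, 5), (54, 7), (46, 6), (9, 8), (65, 8), (61, 9), (52, 8), (44, 7), (37, 6), (31, 5), (5,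 4), (45, 4), (54, 6), (46, 5), (64, 8), (55, 7), (8, 6), (65, 7), (9, 6), (10, 6), (7, 5), (60, 7), (51, 6), (43, 5), (30, 4), (4, 3), (61, 6), (52, 5), (44, 4), (31, 3), (55, 5), (9, 6), (62, 6), (45, 5), (6, 4), (64, 5), (8, 4), (65, 4), (61, 5), (52, 4), (5, 3), (63, 5), (54, 4), (46, 3), (63, 6), (54, 5), (46, 4), (7, 3), (65, 5), (9, 4), (64, 4), (8, 3), (10, 3), (10, 4), (49, 3), (16, 2), (2, 1), (50, 5), (42, 4), (29, 3), (20, 2), (3, 1), (51, 2), (43, 1), (55, 3), (8, 2), (9, 2), (64, 3), (65, 4), (62, 5), (53, 4), (45, 3), (6, 2), (64, 4), (55, 3), (8, 2), (65, 3), (9, 2), (10, 2), (51, 2), (4, 1), (52, 1), (54, 2), (55, 3), (9, 4)]),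
    ([1, 0, 0], [(0, 1)], [(11, 0), (56, 8), (47, 7), (39, 6), (32, 5), (21, 4), (17, 3), (12, 2), (11, 1), (0, 0), (57, 3), (48, 2), (27, 1), (18, 0), (53, 5), (45, 4), (6, 3), (54, 4), (46, 3), (9, 5), (10, 5), (41, 4), (34, 3), (23, 2), (19, 1), (31, 3), (54, 5), (55, 6), (9, 7), (63, 7), (46, 6), (7, 5), (65, 6), (64, 7), (55, 6), (8, 5), (10, 6), (51, 5), (30, 4), (25, 3), (4, 2), (53, 4), (45, 3), (9, 5), (44, 4), (31, 3), (5, 2), (45, 2), (55, 4), (8, 3), (54, 3), (55, 4), (9, 5), (58, 5), (41, 4), (34, 3), (28, 2), (2, 1), (53, 5), (45, 4), (6, 3), (55, 4), (8, 3), (9, 3), (55, 4), (10, 6), (50, 5), (42, 4), (35, 3), (20, 2), (3, 1), (51, 2), (43, 1), (55, 3), (8, 2), (9, 2), (64, 4), (55, 3), (65, 5), (9, 4), (60, 4), (43, 3), (36, 2), (4, 1), (64, 3), (55, 2), (10, 4), (52, 3), (44, 2), (37, 1), (64, 3), (65, 4), (63, 5),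 (54, 4), (46, 3), (7, 2), (64, 4), (55, 3), (8, 2), (65, 3), (9, 2), (10, 2), (25, 1), (52, 4), (44, 3), (5, 2), (8, 2), (53, 2), (54, 3), (63, 5), (54, 4), (7, 3), (64, 4), (55, 3), (64, 5), (55, 4), (8, 3), (65, 4), (9, 3), (10, 3)]),
    ([2, 2, 2], [(2, 0), (49, 4), (41, 3), (28, 2), (19, 1), (16, 0), (60, 5), (51, 4), (43, 3), (30, 2), (62, 6), (53, 5), (45, 4), (6, 3), (62, 5), (53, 4), (45, 3), (64, 6), (55, 5), (8, 4), (65, 5), (9, 4), (64, 4), (10, 5)], [(2, 1)]),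
    ([2, 2, 0], [(2, 0), (47, 4), (39, 3), (26, 2), (17, 1), (14, 0), (51, 4), (43, 3), (36, 2), (64, 5), (55, 4), (65, 6), (9, 5), (62, 5), (45, 4), (38, 3), (64, 6), (8, 5), (65, 5), (10, 6), (9, 5)], [(12, 1), (12, 0), (58, 8), (49, 7), (41, 6), (34, 5), (23, 4), (19, 3), (16, 2), (2, 1), (50, 5), (42, 4), (29, 3), (20, 2), (3, 1), (51, 2), (43, 1), (55, 3), (8, 2), (9, 2), (64, 3), (65, 4), (62, 5), (53, 4), (45, 3), (6, 2), (64, 4), (55, 3), (8, 2), (65, 3), (9, 2), (10, 2), (4, 1), (31, 1), (54, 3), (55, 4), (9, 5), (63, 5), (46, 4), (7, 3), (65, 4), (64, 5), (55, 4), (8, 3), (10, 4), (9, 3), (59, 3), (29, 2), (24, 1), (62, 5), (53, 4), (45, 3), (10, 6), (60, 6), (51, 5), (43, 4), (30, 3), (25, 2), (53, 5), (45, 4), (55, 6), (8, 5), (9, 5), (61, 5), (31, 4), (5, 3), (45, 3), (63, 6), (54, 5), (46, 4), (64, 7), (55, 6), (8,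 5), (65, 6), (9, 5), (10, 5)]),
    ([2, 0, 0], [(0, 1)], [(12, 0), (56, 8), (47, 7), (39, 6), (32, 5), (21, 4), (17, 3), (14, 2), (12, 1), (0, 0), (58, 3), (49, 2), (28, 1), (19, 0), (6, 2), (9, 3), (59, 3), (42, 2), (20, 1), (55, 4), (8, 3), (60, 4), (51, 3), (4, 2), (61, 3), (52, 2), (63, 4), (54, 3), (64, 5), (55, 4), (65, 6), (9, 5), (10, 5), (42, 4), (35, 3), (24, 2), (3, 1), (52, 2), (44, 1), (55, 3), (8, 2), (9, 2), (63, 2), (65, 3), (10, 4), (55, 3), (54, 4), (46, 3), (7, 2), (55, 3), (8, 2), (9, 2), (25, 1), (52, 4), (44, 3), (5, 2), (8, 2), (53, 2), (54, 3), (63, 5), (54, 4), (7, 3), (64, 4), (55, 3), (64, 5), (55, 4), (8, 3), (65, 4), (9, 3), (10, 3)]),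
    ([2, 2, 1], [(2, 0), (48, 4), (40, 3), (27, 2), (18, 1), (15, 0), (30, 3), (25, 2), (53, 5), (45, 4), (52, 6), (44, 5), (31, 4), (5, 3), (45, 3), (55, 5), (8, 4), (9, 4), (6, 3), (53, 4), (45, 3), (54, 5), (46, 4), (55, 6), (8, 5), (65, 6), (9, 5), (10, 5)], [(13, 1), (13, 0), (58, 8), (49, 7), (41, 6), (34, 5), (23, 4), (19, 3), (16, 2), (2, 1), (50, 5), (42, 4), (29, 3), (20, 2), (3, 1), (51, 2), (43, 1), (55, 3), (8, 2), (9, 2), (64, 3), (65, 4), (62, 5), (53, 4), (45, 3), (6, 2), (64, 4), (55, 3), (8, 2), (65, 3), (9, 2), (10, 2), (4, 1), (31, 1), (54, 3), (55, 4), (9, 5), (63, 5), (46, 4), (7, 3), (65, 4), (64, 5), (55, 4), (8, 3), (10, 4), (9, 3), (59, 3), (29, 2), (24, 1), (62, 5), (53, 4), (45, 3), (10, 6), (60, 6), (51, 5), (43, 4), (30, 3), (25, 2), (53, 5), (45, 4), (55, 6), (8, 5), (9, 5), (61, 5), (31, 4), (5, 3),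 (45, 3), (63, 6), (54, 5), (46, 4), (64, 7), (55, 6), (8, 5), (65, 6), (9, 5), (10, 5)]),
    ([2, 1, 1], [(1, 1)], [(13, 0), (57, 8), (48, 7), (40, 6), (33, 5), (22, 4), (18, 3), (15, 2), (13, 1), (1, 0), (58, 4), (49, 3), (41, 2), (28, 1), (23, 0), (62, 5), (53, 4), (45, 3), (38, 2), (64, 6), (55, 5), (8, 4), (65, 5), (9, 4), (64, 4), (10, 5), (59, 6), (50, 5), (42, 4), (35, 3), (29, 2), (24, 1), (62, 5), (53, 4), (45, 3), (10, 6), (54, 5), (46, 4), (9, 6), (64, 6), (8, 5), (65, 5), (10, 6), (51, 5), (36, 4), (30, 3), (25, 2), (53, 5), (45, 4), (54, 6), (46, 5), (9, 7), (65, 7), (61, 8), (52, 7), (44, 6), (37, 5), (31, 4), (5, 3), (45, 3), (54, 5), (46, 4), (64, 7), (55, 6), (8, 5), (65, 6), (9, 5), (10, 5), (7, 4), (59, 6), (50, 5), (42, 4), (29, 3), (20, 2), (3, 1), (51, 2), (43, 1), (55, 3), (8, 2), (9, 2), (64, 3), (65, 4),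 (10, 5), (52, 4), (44, 3), (31, 2), (55, 4), (9, 5), (45, 4), (6, 3), (43, 3), (25, 2), (4, 1), (55, 3), (8, 2), (52, 2), (5, 1), (53, 2), (45, 1), (55, 3), (8, 2), (9, 2), (31, 1), (54, 3), (54, 4), (7, 3), (9, 3), (65, 4), (10, 5)]),
    ([2, 1, 0], [(13, 0), (56, 8), (47, 7), (39, 6), (32, 5), (21, 4), (17, 3), (14, 2), (12, 1), (11, 0), (58, 8), (49, 7), (41, 6), (34, 5), (23, 4), (19, 3), (2, 2), (51, 6), (43, 5), (30, 4), (4, 3), (53, 5), (45, 4), (6, 3), (52, 4), (44, 3), (54, 5), (46, 4), (55, 6), (8, 5), (9, 5), (63, 5), (7, 4), (65, 4), (64, 5), (55, 4), (10, 6), (9, 5), (59, 5), (42, 4), (24, 3), (3, 2), (52, 3), (44, 2), (55, 4), (8, 3), (9, 3), (64, 3), (10, 4), (43, 3), (25, 2), (55, 5), (8, 4), (52, 4), (5, 3), (54, 4), (46, 3), (55, 5), (8, 4), (9, 4), (59, 4), (35, 3), (20, 2), (54, 5), (46, 4), (9, 6), (10, 6),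 (46, 5), (7, 4), (8, 4), (51, 4), (4, 3), (52, 3), (53, 4), (54, 5), (63, 7), (54, 6), (7, 5), (64, 6), (55, 5), (64, 7), (55, 6), (8, 5), (65, 6), (9, 5), (10, 5)], [(11, 1), (12, 0), (57, 8), (48, 7), (40, 6), (33, 5), (22, 4), (18, 3), (15, 2), (13, 1), (59, 9), (50, 8), (42, 7), (35, 6), (24, 5), (20, 4), (3, 3), (51, 4), (43, 3), (55, 5), (8, 4), (9, 4), (63, 7), (54, 6), (46, 5), (65, 8), (9, 7), (10, 7), (8, 6), (61, 7), (52, 6), (37, 5), (5, 4), (46, 4), (65, 6), (10, 7), (53, 6), (45, 5), (38, 4), (51, 7), (43, 6), (36, 5), (30, 4), (4, 3), (64, 6), (55, 5), (65, 7), (9, 6), (61, 6), (44, 5), (37, 4), (31, 3), (54, 5), (64, 7), (55, 6), (10, 8), (53, 7), (45, 6), (38, 5), (6, 4), (55, 6), (8, 5), (9, 5), (37, 4), (5, 3), (46, 3), (63, 5), (46, 4), (7, 3), (63, 4), (46, 3), (65, 5), (64, 6), (55, 5), (8, 4), (10, 5), (9,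 4), (10, 4), (34, 3), (2, 2), (54, 6), (46, 5), (9, 7), (43, 6), (36, 5), (30, 4), (4, 3), (64, 6), (55, 5), (61, 7), (52, 6), (44, 5), (37, 4), (31, 3), (54, 5), (64, 7), (55, 6), (65, 8), (9, 7), (10, 7), (46, 6), (7, 5), (8, 5)]),
    ([3, 3, 3], [(3, 0), (50, 1), (42, 0)], [(3, 1)]),
    ([3, 3, 0], [(3, 0), (47, 1), (39, 0), (65, 3), (9, 2)], [(14, 1), (14, 0), (50, 4), (42, 3), (35, 2), (3, 1), (54, 2), (46, 1), (9, 3), (64, 3), (8, 2), (65, 2), (63, 3), (54, 2), (7, 1), (64, 2), (55, 1), (65, 3), (9, 2)]),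
    ([3, 0, 0], [(0, 1)], [(14, 0), (47, 4), (39, 3), (32, 2), (14, 1), (0, 0), (59, 3), (50, 2), (29, 1), (20, 0), (53, 3), (45, 2), (65, 5), (9, 4), (10, 4), (46, 3), (8, 4), (54, 4), (7, 3), (55, 3), (55, 4), (8, 3), (9, 3), (65, 3)]),
    ([3, 3, 1], [(3, 0), (48, 1), (40, 0), (65, 2), (10, 3)], [(15, 1), (15, 0), (29, 3), (24, 2), (3, 1), (52, 2), (44, 1), (55, 3), (8, 2), (9, 2), (62, 2), (10, 3), (31, 2), (5, 1), (45, 1), (53, 3), (45, 2), (6, 1)]),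
    ([3, 1, 1], [(1, 1)], [(15, 0), (27, 3), (22, 2), (15, 1), (1, 0), (59, 4), (50, 3), (42, 2), (29, 1), (24, 0), (62, 4), (53, 3), (45, 2), (10, 5), (55, 4), (8, 3), (9, 3), (61, 3), (31, 2), (5, 1), (45, 1), (62, 4), (53, 3), (45, 2), (6, 1), (61, 3), (52, 2), (44, 1), (63, 4), (54, 3), (46, 2), (62, 5), (53, 4), (45, 3), (38, 2), (63, 6), (54, 5), (46, 4), (7, 3)]),
    ([3, 1, 0], [(15, 0), (26, 3), (21, 2), (14, 1), (11, 0), (59, 8), (50, 7), (42, 6), (35, 5), (24, 4), (20, 3), (52, 6), (44, 5), (55, 7), (8, 6), (9, 6), (63, 6), (65, 7), (10, 8), (55, 7), (9, 8), (63, 8), (46, 7), (7, 6), (64, 7), (8, 6), (65, 6), (61, 7), (52, 6), (5, 5), (62, 7), (53, 6), (45, 5), (63, 8), (54, 7), (46, 6), (10, 9), (53, 8), (45, 7), (38, 6), (6, 5)], [(11, 1), (14, 0), (48, 4), (40, 3), (33, 2), (15, 1), (55, 6), (65, 8), (9, 7), (10, 7),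 (41, 6), (34, 5), (28, 4), (23, 3), (16, 2), (61, 7), (52, 6), (44, 5), (31, 4), (55, 6), (9, 7), (63, 7), (46, 6), (64, 8), (8, 7), (65, 7), (10, 8), (53, 7), (38, 6), (6, 5), (55, 6), (9, 7), (46, 6), (7, 5), (55, 6), (8, 5), (60, 6), (51, 5), (25, 4), (9, 7), (61, 7), (44, 6), (5, 5), (8, 5), (63, 5), (64, 6), (65, 7), (10, 8)]),
    ([3, 3, 2], [(3, 0), (49, 1), (41, 0), (65, 2)], [(16, 1), (16, 0), (59, 5), (50, 4), (42, 3), (29, 2), (3, 1), (53, 2), (45, 1), (64, 4), (55, 3), (8, 2), (65, 3), (9, 2), (10, 2), (6, 1)]),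
    ([3, 2, 2], [(2, 1), (3, 0), (51, 1), (43, 0), (53, 2), (45, 1), (55, 3), (8, 2), (9, 2)], [(16, 0), (58, 5), (49, 4), (41, 3), (28, 2), (16, 1), (2, 0), (50, 4), (42, 3), (29, 2), (20, 1), (3, 0), (51, 1), (43, 0), (55, 2), (8, 1), (9, 1), (64, 2), (65, 3), (62, 4), (53, 3), (45, 2), (6, 1), (64, 3), (55, 2), (8, 1), (65, 2), (9, 1), (10, 1), (55, 3), (8, 2), (65, 3), (9, 2), (10, 2)]),
    ([3, 2, 0], [(16, 0), (56, 5), (47, 4), (39, 3), (26, 2), (14, 1), (12, 0), (59, 8), (50, 7), (42, 6), (35, 5), (24, 4), (20, 3), (3, 2), (51, 3), (43, 2), (55, 4), (8, 3), (9, 3), (63, 6), (54, 5), (46, 4), (65, 7), (9, 6), (10, 6), (8, 5), (63, 6), (54, 5), (7, 4), (64, 5), (55, 4), (65, 6), (9, 5), (62, 5), (45, 4), (64, 6), (8, 5), (65, 5), (10, 6), (9, 5)], [(12, 1), (14, 0), (49, 4), (41, 3), (34, 2), (16, 1), (63, 6), (54, 5), (46,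 4), (65, 7), (9, 6), (64, 6), (8, 5), (10, 5), (50, 5), (35, 4), (29, 3), (3, 2), (53, 3), (45, 2), (63, 5), (54, 4), (46, 3), (65, 6), (9, 5), (10, 5), (51, 5), (43, 4), (36, 3), (30, 2), (64, 6), (55, 5), (65, 7), (9, 6), (61, 6), (44, 5), (37, 4), (31, 3), (54, 5), (64, 7), (55, 6), (10, 8), (54, 7), (46, 6), (7, 5), (55, 6), (8, 5), (9, 5)]),
    ([3, 2, 1], [(16, 0), (57, 5), (48, 4), (40, 3), (27, 2), (15, 1), (13, 0), (59, 8), (50, 7), (42, 6), (35, 5), (24, 4), (20, 3), (3, 2), (51, 3), (43, 2), (55, 4), (8, 3), (9, 3), (63, 6), (54, 5), (46, 4), (65, 7), (9, 6), (10, 6), (8, 5), (61, 6), (52, 5), (37, 4), (5, 3), (46, 3), (65, 5), (10, 6), (53, 5), (45, 4), (38, 3), (53, 6), (45, 5), (38, 4), (6, 3), (54, 5), (46, 4), (7, 3), (55, 4), (8, 3), (65, 4), (9, 3), (10, 3)], [(13, 1), (15, 0), (28, 3), (23, 2), (16, 1), (61, 6),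 (52, 5), (44, 4), (31, 3), (55, 5), (9, 6), (63, 6), (46, 5), (64, 7), (8, 6), (65, 6), (10, 7), (53, 6), (38, 5), (6, 4), (55, 5), (9, 6), (42, 5), (35, 4), (24, 3), (3, 2), (52, 3), (44, 2), (55, 4), (8, 3), (9, 3), (63, 3), (65, 4), (10, 5), (55, 4), (51, 5), (43, 4), (36, 3), (25, 2), (54, 5), (46, 4), (9, 6), (64, 6), (8, 5), (65, 5), (61, 6), (52, 5), (37, 4), (5, 3), (46, 3), (65, 5), (10, 6), (54, 5), (46, 4), (7, 3), (55, 4), (8, 3), (9, 3)]),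
    ([4, 0, 0], [(0, 1), (4, 0)], [(17, 0), (17, 1), (0, 0), (60, 3), (51, 2), (30, 1), (4, 0)]),
    ([4, 4, 1], [(4, 0)], [(18, 1), (18, 0), (51, 5), (43, 4), (30, 3), (25, 2), (4, 1), (53, 3), (45, 2), (55, 4), (8, 3), (9, 3), (31, 2), (5, 1), (45, 1), (53, 3), (45, 2), (6, 1), (55, 2), (8, 1), (9, 1)]),
    ([4, 1, 1], [(1, 1)], [(18, 0), (48, 5), (40, 4), (27, 3), (22, 2), (18, 1), (1, 0), (60, 4), (51, 3), (43, 2), (30, 1), (25, 0), (53, 3), (45, 2), (55, 4), (8, 3), (9, 3), (61, 3), (31, 2), (5, 1), (45, 1), (62, 4), (53, 3), (45, 2), (6, 1), (64, 3), (55, 2), (8, 1), (65, 2), (9, 1), (61, 1), (63, 2), (62, 3), (38, 2), (63, 4), (7, 3), (64, 3), (10, 4)]),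
    ([4, 1, 0], [(18, 0), (47, 5), (39, 4), (26, 3), (21, 2), (17, 1), (11, 0), (60, 8), (51, 7), (43, 6), (36, 5), (25, 4), (4, 3), (54, 5), (46, 4), (9, 6), (64, 6), (8, 5), (65, 5), (10, 6), (52, 5), (37, 4), (5, 3), (46, 3), (65, 5), (62, 6), (53, 5), (45, 4), (38, 3), (63, 7), (54, 6), (46, 5), (7, 4), (10, 6), (53, 5), (45, 4), (6, 3), (55, 4), (8, 3), (9, 3), (65, 3)], [(11, 1), (17, 0), (18, 1), (49, 6), (41, 5), (28, 4), (23, 3), (19, 2), (31, 4), (54, 6), (55, 7), (9, 8), (62, 8), (45, 7), (38, 6), (6, 5), (64, 7), (8, 6), (65, 6), (64, 7), (55, 6), (10, 8), (9, 7), (43, 6), (36, 5), (25, 4), (4, 3), (54, 5), (46, 4), (9, 6), (64, 6), (8, 5), (61, 5), (37, 4), (5, 3), (46, 3), (10, 5), (46, 4), (7, 3), (8, 3)]),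
    ([4, 4, 2], [(4, 0)], [(19, 1), (19, 0), (30, 2), (4, 1), (6, 1)]),
    ([4, 2, 2], [(2, 1), (20, 0), (51, 3), (43, 2), (4, 1), (53, 2), (45, 1), (55, 3), (8, 2), (9, 2)], [(19, 0), (28, 2), (19, 1), (2, 0), (51, 4), (43, 3), (30, 2), (4, 1), (53, 3), (45, 2), (6, 1), (53, 2), (45, 1), (55, 3), (8, 2), (9, 2)]),
    ([4, 2, 0], [(19, 0), (26, 2), (17, 1), (12, 0), (60, 8), (51, 7), (43, 6), (36, 5), (25, 4), (4, 3), (54, 5), (46, 4), (9, 6), (64, 6), (8, 5), (65, 5), (10, 6), (53, 5), (38, 4)], [(12, 1), (17, 0), (19, 1), (29, 3), (20, 2), (53, 5), (45, 4), (60, 7), (51, 6), (43, 5), (30, 4), (4, 3), (61, 6), (52, 5), (44, 4), (31, 3), (55, 5), (9, 6), (63, 6), (46, 5), (64, 7), (8, 6), (65, 6), (10, 7)]),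
    ([4, 2, 1], [(19, 0), (27, 2), (18, 1), (13, 0), (60, 8), (51, 7), (43, 6), (36, 5), (25, 4), (4, 3), (54, 5), (46, 4), (9, 6), (64, 6), (8, 5), (65, 5), (10, 6), (52, 5), (37, 4), (5, 3), (46, 3), (65, 5), (62, 6), (53, 5), (45, 4), (38, 3), (64, 7), (55, 6), (8, 5), (65, 6), (9, 5), (62, 5), (38, 4), (6, 3), (63, 4), (7, 3)], [(13, 1), (18, 0), (49, 5), (41, 4), (28, 3), (23, 2), (19, 1), (31, 3), (54, 5), (55, 6), (9, 7), (62, 7), (45, 6), (38, 5), (6, 4), (64, 6), (8, 5), (65, 5), (64, 6), (55, 5), (10, 7), (9, 6), (42, 5), (35, 4), (24, 3), (20, 2), (52, 5), (44, 4), (55, 6), (8, 5), (9, 5), (63, 5), (65, 6), (10, 7), (55, 6), (51, 7), (43, 6), (36, 5), (25, 4), (4, 3), (54, 5), (46, 4), (9, 6), (64, 6), (8, 5), (65, 5), (61, 6), (52, 5), (37, 4), (5, 3), (46, 3), (65, 5), (10, 6), (54, 5), (46, 4), (7, 3), (55, 4), (8,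 3), (9, 3)]),
    ([4, 4, 3], [(4, 0)], [(20, 1), (20, 0), (51, 3), (43, 2), (4, 1), (55, 2), (8, 1), (9, 1)]),
    ([4, 3, 0], [(20, 0), (47, 3), (39, 2), (17, 1), (14, 0), (51, 4), (43, 3), (36, 2), (64, 5), (55, 4), (65, 6), (9, 5), (64, 5), (8, 4), (65, 4), (10, 5), (9, 4)], [(14, 1), (17, 0), (20, 1), (54, 4), (46, 3), (55, 5), (8, 4), (9, 4)]),
    ([4, 3, 2], [(20, 0), (49, 3), (41, 2), (19, 1), (16, 0), (60, 5), (51, 4), (43, 3), (30, 2), (62, 6), (53, 5), (45, 4), (6, 3), (64, 5), (55, 4), (8, 3), (10, 4), (9, 3)], [(16, 1), (19, 0), (29, 2), (20, 1), (53, 4), (45, 3), (62, 6), (53, 5), (45, 4), (6, 3), (64, 5), (55, 4), (8, 3), (65, 4), (9, 3), (10, 3)]),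
    ([5, 5, 5], [(5, 0), (44, 0)], [(5, 1)]),
    ([5, 5, 0], [(5, 0), (39, 0)], [(21, 1), (21, 0), (61, 4), (37, 3), (31, 2), (5, 1), (45, 1), (54, 3), (46, 2), (10, 5), (53, 4), (45, 3), (38, 2), (6, 1), (54, 3), (46, 2), (7, 1)]),
    ([5, 0, 0], [(0, 1), (25, 0), (53, 3), (45, 2), (9, 4)], [(21, 0), (56, 4), (32, 3), (26, 2), (21, 1), (0, 0), (61, 3), (52, 2), (31, 1), (9, 3), (62, 3), (6, 2), (63, 2), (10, 3), (38, 2), (7, 3)]),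
    ([5, 5, 1], [(5, 0), (40, 0)], [(22, 1), (22, 0), (37, 2), (5, 1), (46, 1), (63, 3), (46, 2), (7, 1)]),
    ([5, 1, 1], [(1, 1), (5, 0), (45, 0), (8, 1)], [(22, 0), (33, 2), (22, 1), (1, 0), (61, 4), (52, 3), (44, 2), (31, 1), (5, 0), (45, 0), (55, 2), (8, 1), (9, 1), (63, 1), (63, 2), (7, 1), (65, 1)]),
    ([5, 1, 0], [(22, 0), (32, 2), (21, 1), (11, 0), (61, 8), (52, 7), (44, 6), (37, 5), (5, 4), (46, 4), (64, 6), (8, 5), (65, 5), (10, 6), (53, 5), (38, 4), (54, 6), (7, 5), (63, 6), (54, 5), (64, 7), (55, 6)], [(11, 1), (21, 0), (57, 4), (33, 3), (27, 2), (22, 1), (38, 3), (7, 4), (58, 6), (49, 5), (34, 4), (28, 3), (23, 2), (62, 7), (53, 6), (45, 5), (38, 4), (64, 8), (55, 7), (8, 6), (65, 7), (9, 6), (63, 6), (7, 5), (65, 5), (65, 6), (9, 5), (10, 5), (30, 4), (25, 3), (53, 6), (45, 5), (52, 7), (44, 6), (31, 5), (5, 4),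 (45, 4), (55, 6), (8, 5), (9, 5)]),
    ([5, 5, 2], [(5, 0), (41, 0)], [(23, 1), (23, 0), (61, 5), (52, 4), (44, 3), (37, 2), (5, 1), (46, 1), (64, 3), (8, 2), (65, 2), (10, 3), (54, 2), (7, 1), (55, 1), (9, 2)]),
    ([5, 2, 2], [(2, 1), (24, 0), (60, 4), (51, 3), (43, 2), (25, 1), (55, 4), (8, 3), (9, 3), (62, 3), (64, 4), (65, 5)], [(23, 0), (58, 5), (49, 4), (41, 3), (34, 2), (23, 1), (2, 0), (52, 4), (44, 3), (31, 2), (55, 4), (9, 5), (46, 4), (8, 5), (63, 6), (54, 5), (7, 4), (65, 5), (9, 4), (64, 4), (10, 5)]),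
    ([5, 2, 0], [(23, 0), (56, 5), (47, 4), (39, 3), (32, 2), (21, 1), (12, 0), (61, 8), (52, 7), (44, 6), (37, 5), (5, 4), (46, 4), (64, 6), (8, 5), (65, 5), (10, 6), (53, 5), (38, 4), (54, 6), (7, 5), (63, 6), (54, 5), (64, 7), (55, 6), (64, 8), (55, 7), (8, 6), (65, 7), (9, 6), (10, 6)], [(12, 1), (21, 0), (58, 4), (34, 3), (28, 2), (23, 1), (62, 6), (53, 5), (45, 4), (38, 3), (64, 7), (55, 6), (8, 5), (65, 6), (9, 5), (63, 5), (7, 4), (65, 4), (10, 5), (50, 4), (29, 3), (24, 2), (62, 6), (53, 5), (45, 4), (10, 7), (9, 6), (43, 5), (30, 4), (25, 3), (53, 6), (45, 5), (55, 7), (8, 6), (52, 6), (31, 5), (5, 4), (45, 4), (9, 6), (46, 5), (8, 6)]),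
    ([5, 2, 1], [(23, 0), (57, 5), (48, 4), (40, 3), (33, 2), (22, 1), (13, 0), (61, 8), (52, 7), (44, 6), (37, 5), (5, 4), (46, 4), (64, 6), (8, 5), (65, 5), (10, 6), (54, 5), (7, 4), (54, 4), (9, 5), (65, 6), (10, 7)], [(13, 1), (22, 0), (34, 2), (23, 1), (63, 6), (54, 5), (46, 4), (7, 3), (65, 5), (9, 4), (59, 4), (42, 3), (24, 2), (64, 6), (55, 5), (8, 4), (10, 5), (51, 4), (25, 3), (9, 6), (44, 5), (5, 4), (8, 4)]),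
    ([5, 5, 3], [(5, 0), (42, 0)], [(24, 1), (24, 0), (61, 4), (52, 3), (44, 2), (5, 1), (8, 1), (64, 2), (55, 1), (65, 3), (9, 2), (10, 2)]),
    ([5, 3, 3], [(3, 1)], [(24, 0), (59, 4), (50, 3), (42, 2), (24, 1), (3, 0), (52, 1), (44, 0), (55, 2), (8, 1), (9, 1), (64, 1), (65, 2), (10, 3)]),
    ([5, 3, 0], [(24, 0), (56, 4), (47, 3), (39, 2), (21, 1), (14, 0), (52, 4), (44, 3), (37, 2), (64, 4), (65, 5), (62, 6), (53, 5), (45, 4), (38, 3), (63, 7), (54, 6), (46, 5), (7, 4), (10, 6), (55, 5), (8, 4), (9, 4), (65, 4), (10, 5)], [(14, 1), (21, 0), (59, 4), (35, 3), (29, 2), (24, 1), (62, 5), (53, 4), (45, 3), (10, 6), (54, 5), (46, 4), (9, 6), (10, 6), (46, 5), (7, 4), (8, 4)]),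
    ([5, 3, 1], [(24, 0), (57, 4), (48, 3), (40, 2), (22, 1), (15, 0), (31, 3), (5, 2), (45, 2), (54, 4), (46, 3), (55, 5), (8, 4), (65, 5), (9, 4), (10, 4)], [(15, 1), (22, 0), (35, 2), (24, 1), (63, 5), (54, 4), (46, 3), (65, 6), (9, 5), (10, 5), (44, 4), (37, 3), (5, 2), (46, 2), (64, 4), (8, 3), (62, 3), (38, 2)]),
    ([5, 3, 2], [(24, 0), (58, 4), (49, 3), (41, 2), (23, 1), (16, 0), (61, 5), (52, 4), (44, 3), (31, 2), (55, 4), (9, 5), (63, 5), (46, 4), (64, 6), (8, 5), (65, 5), (10, 6), (55, 5), (65, 7), (9, 6), (10, 6)], [(16, 1), (23, 0), (59, 5), (50, 4), (42, 3), (35, 2), (24, 1), (63, 5), (54, 4), (46, 3), (65, 6), (9, 5), (10, 5), (8, 4), (62, 5), (53, 4), (38, 3), (64, 6), (55, 5), (65, 7), (9, 6), (10, 6)]),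
    ([5, 5, 4], [(5, 0), (43, 0)], [(25, 1), (25, 0), (52, 3), (44, 2), (5, 1), (8, 1), (55, 1), (9, 2)]),
    ([5, 4, 0], [(25, 0), (47, 3), (39, 2), (21, 1), (17, 0), (64, 5), (65, 6), (10, 7), (9, 6)], [(17, 1), (21, 0), (60, 4), (36, 3), (30, 2), (25, 1), (53, 4), (45, 3), (54, 5), (46, 4), (9, 6), (10, 6)]),
    ([5, 4, 1], [(25, 0), (48, 3), (40, 2), (22, 1), (18, 0), (52, 5), (44, 4), (31, 3), (5, 2), (45, 2), (55, 4), (8, 3), (9, 3), (65, 5), (10, 6)], [(18, 1), (22, 0), (36, 2), (25, 1), (54, 4), (46, 3), (9, 5), (61, 5), (44, 4), (37, 3), (5, 2), (46, 2), (64, 4), (8, 3), (10, 3), (38, 2)]),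
    ([5, 4, 2], [(25, 0), (49, 3), (41, 2), (23, 1), (19, 0), (31, 2), (54, 4), (55, 5), (9, 6), (64, 6), (8, 5), (10, 5)], [(19, 1), (23, 0), (60, 5), (51, 4), (43, 3), (36, 2), (25, 1), (54, 4), (46, 3), (9, 5), (64, 5), (8, 4), (65, 4), (10, 5), (53, 4), (38, 3)]),
    ([6, 0, 0], [(0, 1), (30, 0), (6, 1)], [(26, 0), (26, 1), (0, 0), (62, 3), (53, 2), (6, 1)]),
    ([6, 6, 1], [(6, 0)], [(27, 1), (27, 0), (38, 2), (6, 1), (7, 1)]),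
    ([6, 1, 0], [(27, 0), (32, 2), (26, 1), (11, 0), (62, 8), (53, 7), (45, 6), (38, 5), (63, 9), (54, 8), (46, 7), (7, 6), (64, 8), (55, 7), (8, 6)], [(11, 1), (26, 0), (27, 1), (34, 3), (28, 2), (54, 5), (46, 4), (9, 6), (43, 5), (36, 4), (30, 3), (64, 7), (55, 6), (61, 8), (52, 7), (44, 6), (37, 5), (31, 4), (54, 6), (64, 8), (55, 7), (65, 9), (9, 8), (10, 8), (46, 7), (7, 6), (8, 6)])]
  fuses := [
    ⟨0, [1, 0], [0, 1, 2, 5, 7, 8], [(18, 1), (13, 0), (60, 8), (51, 7), (43, 6), (36, 5), (25, 4), (4, 3), (54, 5), (46, 4), (9, 6), (64, 6), (8, 5), (65, 5), (10, 6), (52, 5), (37, 4), (5, 3), (46, 3), (65, 5), (62, 6), (53, 5), (45, 4), (38, 3), (64, 7), (55, 6), (8, 5), (65, 6), (9, 5), (60, 5), (36, 4), (30, 3), (10, 7)], [(19, 1), (30, 3), (4, 2), (29, 2), (60, 4), (30, 3), (63, 5), (65, 6), (10, 7)], [(57, 3), (27, 2), (18,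 1), (1, 0), (60, 4), (51, 3), (43, 2), (30, 1), (25, 0), (53, 3), (45, 2), (55, 4), (8, 3), (9, 3), (61, 3), (31, 2), (5, 1), (45, 1), (62, 4), (53, 3), (45, 2), (6, 1), (64, 3), (55, 2), (8, 1), (65, 2), (9, 1), (62, 1), (63, 2), (10, 3), (34, 2), (28, 1), (19, 0), (6, 2), (54, 3), (46, 2), (9, 4), (44, 3), (37, 2), (64, 4), (64, 5), (8, 4), (10, 4)], [(57, 4), (40, 3), (22, 2), (13, 1), (1, 0), (58, 4), (49, 3), (41, 2), (28, 1), (23, 0), (62, 5), (53, 4), (45, 3), (38, 2), (64, 6), (55, 5), (8, 4), (65, 5), (9, 4), (64, 4), (10, 5), (59, 6), (50, 5), (42, 4), (35, 3), (29, 2), (24, 1), (62, 5), (53, 4), (45, 3), (10, 6), (54, 5), (46, 4), (9, 6), (64, 6), (8, 5), (65, 5), (10, 6), (51, 5), (36, 4), (30, 3), (25, 2), (53, 5), (45, 4), (54, 6), (46, 5), (9, 7), (65, 7), (61, 8), (52, 7), (44, 6), (37, 5), (31, 4), (5, 3), (45, 3),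 (54, 5), (46, 4), (64, 7), (55, 6), (8, 5), (65, 6), (9, 5), (10, 5), (7, 4), (61, 6), (52, 5), (44, 4), (31, 3), (55, 5), (9, 6), (63, 6), (46, 5), (64, 7), (8, 6), (10, 6), (60, 6), (36, 5), (30, 4), (25, 3), (4, 2), (53, 4), (45, 3), (54, 5), (46, 4), (9, 6), (10, 6), (45, 5), (38, 4), (6, 3), (64, 5), (8, 4), (10, 4), (7, 3), (24, 2), (3, 1), (52, 2), (44, 1), (55, 3), (8, 2), (9, 2), (60, 2), (25, 1), (63, 5), (54, 4), (46, 3), (64, 6), (55, 5), (8, 4), (65, 5), (9, 4), (10, 4)]⟩,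
    ⟨0, [2, 0], [0, 2], [(18, 1), (15, 0), (30, 3), (25, 2), (53, 5), (45, 4), (52, 6), (44, 5), (31, 4), (5, 3), (45, 3), (55, 5), (8, 4), (9, 4), (6, 3), (51, 4), (43, 3), (4, 2)], [(20, 1), (51, 4), (43, 3), (4, 2)], [(57, 1), (40, 0), (10, 2), (41, 1), (61, 3), (44, 2), (64, 4), (8, 3), (10, 3)], [(64, 4), (8, 3), (10, 3)]⟩,
    ⟨0, [3, 0], [0, 3, 5, 6, 8], [(22, 0), (36, 2), (25, 1), (54, 4), (46, 3), (9, 5)], [], [(57, 4), (48, 3), (27, 2), (15, 1), (13, 0), (59, 8), (50, 7), (42, 6), (35, 5), (24, 4), (20, 3), (3, 2), (51, 3), (43, 2), (55, 4), (8, 3), (9, 3), (63, 6), (54, 5), (46, 4), (65, 7), (9, 6), (10, 6), (8, 5), (61, 6), (52, 5), (37, 4), (5, 3), (46, 3), (65, 5), (10, 6), (53, 5), (45, 4), (38, 3), (53, 6), (45, 5), (38, 4), (6, 3), (54, 5), (46, 4), (7, 3), (9, 4), (10, 4), (41, 3), (19, 2), (2, 1), (51, 5), (43,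 4), (30, 3), (4, 2), (53, 4), (45, 3), (6, 2), (55, 3), (8, 2), (61, 3), (52, 2), (64, 4), (55, 3), (10, 5)], [(58, 4), (41, 3), (23, 2), (2, 1), (52, 5), (44, 4), (31, 3), (55, 5), (9, 6), (46, 5), (8, 6), (64, 7), (55, 6), (10, 8), (59, 8), (50, 7), (42, 6), (35, 5), (29, 4), (24, 3), (20, 2), (3, 1), (51, 2), (43, 1), (55, 3), (8, 2), (9, 2), (62, 5), (53, 4), (45, 3), (10, 6), (54, 5), (46, 4), (9, 6), (64, 6), (8, 5), (65, 5), (10, 6), (53, 5), (38, 4), (6, 3), (9, 4), (63, 4), (7, 3), (59, 3), (24, 2), (20, 1), (52, 4), (44, 3), (55, 5), (8, 4), (9, 4), (10, 4), (25, 3), (4, 2), (10, 5)]⟩,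
    ⟨0, [1, 1], [2, 6, 7], [(19, 1), (2, 0), (51, 4), (43, 3), (30, 2), (4, 1), (53, 3), (45, 2), (6, 1), (51, 2), (43, 1)], [], [(57, 3), (27, 2), (18, 1), (1, 0), (60, 4), (51, 3), (43, 2), (30, 1), (25, 0), (53, 3), (45, 2), (55, 4), (8, 3), (9, 3), (61, 3), (31, 2), (5, 1), (45, 1), (62, 4), (53, 3), (45, 2), (6, 1), (64, 3), (55, 2), (8, 1), (65, 2), (9, 1), (62, 1), (63, 2), (10, 3), (36, 2), (30, 1), (4, 0), (62, 3), (53, 2), (38, 1), (6, 0), (10, 2)], [(59, 1), (42, 0), (60, 2), (43, 1), (10, 3), (42, 2), (20, 1), (3, 0), (51, 1), (43, 0), (55, 2), (8, 1), (9, 1), (43, 1), (4, 0), (46, 0), (8, 1)]⟩,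
    ⟨1, [6, 1], [1, 6], [(59, 0)], [], [(56, 4), (39, 3), (26, 2), (21, 1), (17, 0), (62, 5), (38, 4), (6, 3), (64, 4), (65, 5), (10, 6), (58, 6), (49, 5), (41, 4), (34, 3), (23, 2), (19, 1), (31, 3), (54, 5), (55, 6), (9, 7), (63, 7), (46, 6), (7, 5), (65, 6), (64, 7), (55, 6), (8, 5), (10, 6), (9, 5), (59, 5), (29, 4), (24, 3), (20, 2), (52, 5), (44, 4), (55, 6), (8, 5), (9, 5), (62, 5), (10, 6), (60, 6), (30, 5), (25, 4), (4, 3), (53, 5), (45, 4), (63, 7), (54, 6), (46, 5), (64, 8), (55, 7), (8, 6), (10, 7)], [(60, 6), (43, 5), (36, 4), (4, 3), (64, 5), (55, 4), (10, 6), (52, 5), (44, 4), (37, 3), (64, 5), (65, 6), (62, 7), (53, 6), (45, 5), (38, 4), (64, 8), (55, 7), (8, 6), (10, 7)]⟩,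
    ⟨1, [3, 3], [], [(38, 1), (6, 0), (7, 0)], [], [(51, 3), (30, 2), (25, 1), (4, 0), (53, 2), (45, 1), (9, 3), (44, 2), (31, 1), (5, 0), (45, 0), (55, 2), (8, 1), (53, 1), (6, 0), (9, 0)], []⟩]
  adj := [
    [],
    [],
    [(0, 1), (1, 1), (2, 1), (3, 1), (5, 1), (11, 1), (12, 1), (15, 1)],
    [(0, 1), (1, 1), (2, 1), (3, 1), (5, 1), (15, 1)],
    [(0, 1), (5, 1), (16, 1)],
    [(1, 1), (16, 1)],
    [(1, 1), (15, 1), (16, 1)],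
    [(1, 1), (2, 1), (3, 1), (12, 1)],
    [(5, 1)],
    [(3, 1), (5, 1)],
    [(1, 1), (3, 1), (15, 1)]]
  base := []
  dense := [
    [0, 0, 0, 0, 0, 0, 0, 0, 0, 0, 0, 0, 0, 0, 0, 0, 0, 1, 0, 0, 0, 0, 0, 0, 0, 0, 1, 0, 0, 0, 0, 0, 0, 0, 0, 0, 0, 0, 0, 0, 0, 0, 0, 0, 0, 0, 0, 1, 0, 0, 0, 0, 0, 0, 0, 0, 1],
    [0, 0, 0, 0, 0, 0, 0, 1, 0, 0, 1, 0, 0, 0, 0, 0, 0, 0, 0, 0, 0, 0, 1, 0, 0, 0, 0, 1, 0, 0, 0, 0, 0, 0, 0, 0, 0, 0, 1, 0, 1, 0, 0, 0, 0, 0, 0, 0, 1, 0, 0, 0, 0, 0, 0, 0, 0, 1, 0, 0, 0, 0, 0, 0, 0, 1],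
    [0, 0, 1, 1, 0, 0, 1, 0, 1, 0, 0, 0, 0, 1, 0, 0, 1, 0, 1, 0, 1, 1, 1, 1, 1, 1, 1, 0, 1, 0, 0, 0, 0, 1, 0, 1, 1, 1, 0, 1, 1, 1, 0, 0, 0, 0, 1, 1, 1, 0, 0, 0, 0, 0, 0, 0, 1, 1, 1, 1, 1, 1, 1, 0, 1, 1],
    [0, 0, 1, 1, 0, 0, 0, 1, 1, 1, 0, 0, 1, 0, 0, 0, 0, 1, 1, 1, 1, 1, 0, 1, 0, 0, 0, 1, 1, 0, 1, 0, 1, 0, 0, 1, 1, 1, 0, 1, 0, 0, 1, 0, 1, 0, 1, 1, 1, 0, 1, 0, 0, 0, 0, 0, 1, 1, 1, 0, 1, 0, 0, 1, 1, 1],
    [0, 0, 0, 0, 0, 0, 1, 0, 1, 1, 1, 0, 0, 0, 0, 0, 1, 0, 0, 1, 0, 0, 0, 0, 0, 0, 0, 0, 1, 0, 1, 0, 0, 0, 0, 0, 0, 0, 0, 0, 0, 1, 0, 1, 0, 0, 0, 0, 0, 1, 0, 1, 0, 0, 0, 1, 0, 0, 0, 0, 1, 0, 0, 0, 0, 1],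
    [0, 0, 0, 1, 1, 1, 1, 1, 0, 0, 1, 0, 0, 0, 1, 0, 1, 1, 0, 1, 1, 0, 0, 1, 1, 1, 1, 0, 0, 0, 1, 0, 0, 0, 1, 0, 1, 0, 1, 1, 0, 1, 1, 1, 0, 1, 0, 1, 0, 1, 1, 1, 0, 1, 0, 1, 0, 0, 1, 1, 1, 1, 1],
    [0, 0, 0, 1, 1, 1, 1, 0, 1, 1, 1, 0, 0, 0, 1, 0, 0, 1, 0, 1, 1, 1, 0, 0, 1, 1, 0, 0, 1, 0, 0, 0, 1, 0, 0, 1, 0, 0, 0, 1, 0, 0, 0, 0, 0, 0, 1, 1, 0, 1, 0, 1, 1, 1, 0, 1, 1, 0, 1, 1, 1, 1, 0, 1, 1, 1],
    [0, 0, 0, 1, 1, 0, 0, 1, 1, 0, 1, 0, 0, 0, 0, 1, 1, 0, 1, 1, 1, 0, 0, 1, 1, 0, 0, 1, 0, 0, 0, 1, 0, 0, 1, 0, 0, 0, 0, 0, 1, 1, 1, 0, 1, 1, 1, 0, 1, 1, 1, 0, 1, 1, 1, 0, 0, 0, 1, 1, 1, 1, 0, 0, 0, 1],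
    [0, 0, 0, 1, 1, 0, 1, 0, 0, 0, 0, 0, 0, 0, 0, 1, 0, 0, 1, 0, 1, 0, 1, 1, 1, 0, 0, 0, 1, 0, 1, 1, 0, 1, 0, 1, 1, 1, 1, 0, 1, 1, 0, 0, 0, 0, 1, 0, 1, 1, 0, 0, 1, 0, 1, 0, 0, 1, 1, 0, 0, 1, 0, 0, 1],
    [0, 0, 0, 0, 0, 1, 0, 1, 1, 1, 0, 0, 0, 0, 1, 1, 0, 1, 1, 1, 0, 1, 1, 1, 0, 1, 0, 0, 0, 0, 1, 0, 1, 1, 0, 0, 0, 0, 0, 1, 1, 1, 0, 1, 0, 1, 1, 1, 1, 1, 1, 0, 0, 0, 1, 0, 1, 1, 1, 1, 0, 1, 0, 1, 1, 1],
    [0, 0, 0, 0, 0, 0, 0, 0, 0, 0, 0, 0, 0, 0, 0, 0, 0, 0, 0, 0, 0, 0, 0, 0, 0, 0, 0, 0, 0, 0, 0, 0, 0, 0, 0, 0, 0, 0, 0, 0, 0, 0, 1, 0, 0, 0, 0, 0, 0, 0, 1],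
    [0, 0, 0, 0, 0, 0, 0, 1, 1, 1, 0, 0, 0, 0, 0, 0, 0, 0, 0, 0, 0, 0, 0, 0, 0, 0, 0, 0, 0, 0, 0, 0, 0, 0, 0, 1, 0, 0, 0, 1, 0, 0, 1, 0, 0, 0, 1, 1, 0, 0, 1, 0, 0, 0, 0, 1, 0, 0, 0, 0, 0, 0, 0, 1, 0, 1],
    [0, 0, 0, 0, 0, 0, 0, 1, 0, 0, 1, 0, 0, 0, 0, 0, 0, 0, 0, 0, 1, 0, 0, 0, 0, 0, 0, 0, 0, 1, 0, 0, 1, 0, 0, 0, 0, 0, 0, 1, 0, 0, 0, 0, 0, 1, 1, 1, 0, 0, 1, 0, 0, 1, 1, 0, 0, 0, 0, 1],
    [0, 0, 0, 0, 0, 1, 1, 0, 1, 1, 0, 0, 0, 0, 0, 0, 0, 0, 0, 0, 0, 0, 0, 0, 1, 0, 0, 0, 0, 1, 0, 1, 0, 0, 0, 0, 0, 0, 0, 0, 1, 0, 0, 0, 1, 0, 0, 0, 1, 0, 0, 0, 1, 1, 0, 1, 0, 0, 0, 0, 0, 0, 1, 0, 0, 1],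
    [0, 0, 0, 0, 0, 1, 1, 1, 1, 1, 1, 0, 0, 0, 0, 0, 0, 0, 0, 0, 0, 0, 1, 0, 1, 0, 0, 1, 0, 1, 0, 1, 0, 0, 0, 0, 0, 0, 1, 0, 0, 0, 1, 0, 1, 0, 0, 0, 0, 0, 1, 0, 1, 1, 0, 1, 0, 0, 0, 1, 0, 0, 1],
    [0, 0, 0, 0, 0, 0, 0, 0, 1, 0, 1, 0, 0, 0, 0, 0, 1, 0, 0, 0, 1, 1, 0, 1, 1, 1, 1, 0, 1, 0, 0, 1, 0, 1, 1, 1, 0, 0, 0, 0, 1, 1, 1, 0, 1, 0, 0, 0, 1, 0, 1, 1, 1, 1, 1, 0, 0, 0, 0, 1, 1, 1, 1, 1, 1, 1],
    [0, 0, 0, 0, 0, 0, 1, 0, 1, 1, 1, 0, 0, 0, 0, 0, 0, 0, 0, 0, 0, 0, 0, 0, 0, 0, 0, 0, 0, 1, 0, 0, 0, 0, 0, 0, 0, 0, 0, 0, 0, 1, 1, 0, 0, 1, 0, 0, 0, 1, 1, 0, 0, 1, 0, 1, 0, 0, 0, 1, 0, 0, 0, 0, 1],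
    [0, 0, 0, 0, 0, 0, 1, 0, 0, 0, 0, 0, 0, 0, 0, 0, 0, 0, 0, 0, 1, 0, 0, 0, 0, 0, 0, 0, 1, 1, 0, 0, 0, 0, 0, 0, 0, 0, 0, 0, 0, 1, 1, 0, 0, 0, 0, 0, 0, 1, 1, 0, 0, 0, 0, 0, 0, 0, 1, 0, 0, 0, 1, 0, 0, 1],
    [0, 0, 0, 0, 0, 0, 0, 0, 1, 0, 1, 0, 0, 0, 0, 0, 0, 0, 0, 0, 1, 0, 0, 0, 1, 0, 1, 0, 0, 1, 1, 1, 0, 0, 1, 0, 1, 1, 0, 1, 0, 1, 1, 0, 1, 0, 0, 1, 0, 1, 0, 0, 0, 1, 0, 1, 1, 0, 0, 1, 0, 1, 1, 0, 1],
    [0, 0, 0, 0, 0, 0, 0, 0, 1, 0, 0, 0, 0, 0, 0, 0, 0, 0, 0, 0, 1, 0, 0, 1, 0, 1, 0, 1, 1, 0, 0, 1, 0, 0, 0, 0, 1, 0, 1, 0, 1, 0, 0, 0, 0, 0, 1, 0, 1, 0, 1, 0, 0, 1, 0, 1, 0, 1, 0, 1, 0, 1, 0, 1, 0, 1],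
    [0, 0, 0, 0, 0, 0, 0, 0, 0, 0, 0, 0, 0, 0, 0, 0, 0, 0, 0, 0, 0, 0, 0, 0, 0, 0, 0, 0, 0, 0, 1, 0, 0, 0, 0, 0, 0, 0, 0, 0, 0, 0, 0, 0, 0, 0, 0, 0, 0, 0, 0, 1, 0, 0, 0, 0, 0, 0, 0, 0, 1],
    [0, 0, 0, 0, 0, 1, 1, 0, 0, 0, 0, 0, 0, 0, 0, 0, 0, 0, 0, 0, 0, 0, 0, 0, 0, 1, 0, 0, 0, 0, 1, 1, 0, 0, 0, 0, 0, 0, 0, 0, 0, 0, 0, 1, 0, 1, 0, 0, 0, 0, 0, 1],
    [0, 0, 0, 0, 0, 1, 1, 1, 0, 0, 1, 0, 0, 0, 0, 0, 0, 0, 0, 0, 0, 0, 1, 0, 0, 1, 0, 1, 0, 0, 1, 1, 0, 0, 0, 0, 0, 0, 1, 0, 1, 0, 0, 1, 0, 1, 0, 0, 1, 0, 0, 1, 0, 0, 0, 0, 0, 0, 0, 0, 1, 0, 0, 0, 0, 1],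
    [0, 0, 0, 0, 0, 0, 0, 0, 1, 1, 0, 0, 0, 0, 0, 0, 0, 0, 0, 1, 0, 1, 0, 1, 0, 0, 1, 0, 1, 0, 0, 1, 0, 0, 0, 0, 0, 0, 0, 1, 0, 1, 0, 0, 0, 1, 0, 1, 0, 1, 0, 1, 1, 0, 0, 1, 0, 0, 0, 0, 1, 1, 0, 1],
    [0, 0, 0, 0, 0, 0, 1, 0, 0, 0, 0, 0, 0, 0, 0, 0, 0, 0, 0, 0, 0, 0, 0, 0, 0, 0, 0, 0, 0, 0, 1],
    [0, 0, 0, 0, 0, 0, 1, 0, 0, 0, 0, 0, 0, 0, 0, 0, 0, 0, 0, 0, 1, 0, 0, 0, 0, 0, 0, 0, 1, 0, 1, 0, 0, 0, 0, 0, 0, 0, 0, 0, 0, 0, 0, 0, 0, 1, 0, 0, 0, 0, 0, 0, 0, 1],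
    [0, 0, 0, 0, 0, 0, 0, 0, 0, 0, 0, 0, 0, 0, 0, 0, 0, 0, 0, 0, 1, 0, 0, 0, 0, 1, 1, 0, 0, 1, 1, 1, 0, 0, 0, 0, 1, 0, 1, 0, 0, 0, 0, 0, 1, 1, 0, 0, 0, 0, 0, 0, 1, 0, 1, 1, 0, 0, 0, 0, 0, 1, 0, 1],
    [0, 0, 0, 0, 0, 0, 0, 0, 0, 1, 0, 0, 0, 0, 0, 0, 0, 0, 0, 0, 1, 0, 0, 1, 1, 0, 0, 1, 1, 0, 0, 1, 0, 0, 0, 1, 0, 0, 1, 0, 0, 1, 1, 0, 1, 0, 1, 0, 0, 1, 0, 0, 1, 1, 0, 0, 0, 0, 0, 0, 1, 1, 1, 0, 1, 1],
    [0, 0, 0, 0, 0, 0, 0, 0, 1, 1, 0, 0, 0, 0, 0, 0, 0, 0, 0, 0, 0, 0, 0, 0, 0, 0, 0, 0, 0, 0, 0, 0, 0, 0, 0, 0, 0, 0, 0, 0, 0, 0, 0, 1, 0, 0, 0, 0, 0, 0, 0, 1, 0, 0, 0, 1],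
    [0, 0, 0, 0, 0, 0, 0, 0, 0, 1, 1, 0, 0, 0, 0, 0, 0, 0, 0, 0, 0, 0, 0, 0, 0, 0, 0, 0, 0, 0, 0, 0, 0, 0, 0, 0, 1, 0, 0, 1, 0, 0, 0, 1, 0, 0, 1, 1, 0, 0, 0, 1, 0, 0, 1],
    [0, 0, 0, 0, 0, 0, 0, 0, 0, 0, 0, 0, 0, 0, 0, 0, 0, 0, 0, 0, 0, 0, 0, 0, 0, 0, 0, 0, 0, 1, 1, 0, 0, 0, 0, 0, 0, 0, 0, 0, 0, 1, 0, 1, 0, 1, 0, 0, 0, 1, 0, 1, 0, 1, 0, 0, 0, 0, 0, 0, 1, 0, 0, 0, 0, 1],
    [0, 0, 0, 0, 0, 0, 0, 0, 0, 0, 0, 0, 0, 0, 0, 0, 0, 0, 0, 0, 0, 0, 0, 0, 0, 0, 0, 0, 0, 0, 0, 0, 0, 0, 0, 0, 0, 0, 0, 0, 0, 0, 0, 0, 1],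
    [0, 0, 0, 0, 0, 0, 1, 1, 0, 0, 1, 0, 0, 0, 0, 0, 0, 0, 0, 0, 0, 0, 0, 0, 0, 0, 0, 0, 0, 0, 0, 1, 0, 0, 0, 0, 0, 1, 1, 1, 0, 0, 0, 0, 0, 0, 0, 0, 0, 0, 0, 0, 0, 1, 0, 0, 0, 0, 0, 0, 0, 1],
    [0, 0, 0, 0, 0, 0, 1, 1, 0, 0, 1, 0, 0, 0, 0, 0, 0, 0, 0, 0, 0, 0, 0, 0, 0, 1, 1, 0, 0, 0, 0, 1, 1, 0, 0, 0, 0, 0, 1, 0, 0, 0, 0, 0, 0, 1, 0, 0, 0, 0, 0, 0, 1, 1, 0, 0, 1, 0, 0, 0, 0, 1, 1, 1],
    [0, 0, 0, 0, 0, 0, 0, 1, 0, 0, 0, 0, 0, 0, 0, 0, 0, 0, 0, 0, 0, 0, 0, 0, 0, 0, 0, 0, 0, 0, 0, 0, 0, 0, 0, 0, 0, 1, 0, 0, 1, 0, 0, 0, 0, 0, 0, 0, 0, 0, 0, 0, 0, 0, 0, 0, 0, 0, 0, 0, 0, 0, 0, 1],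
    [0, 0, 0, 0, 0, 0, 0, 1, 0, 1, 0, 0, 0, 0, 0, 0, 0, 0, 0, 0, 0, 0, 0, 0, 0, 0, 0, 0, 0, 0, 0, 1, 0, 1, 0, 0, 0, 0, 0, 0, 0, 0, 0, 0, 1, 0, 0, 0, 0, 0, 0, 0, 1, 0, 0, 1, 0, 0, 0, 0, 0, 1, 0, 0, 0, 1],
    [0, 0, 0, 0, 0, 0, 0, 1, 1, 1, 0, 0, 0, 0, 0, 0, 0, 0, 0, 0, 0, 0, 0, 1, 0, 1, 0, 1, 1, 0, 1, 1, 1, 1, 1, 0, 0, 1, 1, 0, 0, 0, 0, 0, 0, 1, 1, 0, 0, 1, 0, 0, 0, 1, 0, 1, 0, 1, 1, 0, 0, 1, 1, 0, 1],
    [0, 0, 0, 0, 0, 0, 0, 1, 1, 1, 1, 0, 0, 0, 0, 0, 0, 0, 0, 0, 0, 0, 0, 0, 0, 0, 0, 0, 0, 0, 0, 0, 0, 0, 0, 0, 0, 1, 0, 0, 0, 1, 0, 0, 1, 0, 1, 0, 0, 0, 0, 0, 1, 0, 1, 1, 0, 0, 0, 0, 0, 1, 0, 0, 1, 1],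
    [0, 0, 0, 0, 0, 0, 0, 1, 0, 1, 1, 0, 0, 0, 0, 0, 0, 0, 0, 0, 0, 0, 0, 0, 1, 1, 0, 0, 0, 0, 0, 1, 0, 0, 1, 0, 0, 0, 0, 0, 0, 1, 0, 1, 1, 0, 1, 0, 0, 1, 0, 1, 1, 0, 1, 0, 0, 0, 1, 0, 1, 0, 1, 1],
    [0, 0, 0, 0, 0, 0, 0, 0, 1, 0, 0, 0, 0, 0, 0, 0, 0, 0, 0, 0, 0, 0, 0, 0, 1, 1, 0, 0, 1, 1, 1, 1, 1, 0, 1, 0, 0, 1, 0, 1, 0, 0, 0, 1, 1, 0, 0, 1, 0, 0, 1, 0, 0, 0, 0, 0, 1, 0, 1, 0, 0, 1],
    [0, 0, 0, 0, 0, 0, 0, 0, 1, 1, 1, 0, 0, 0, 0, 0, 0, 0, 0, 0, 0, 0, 0, 0, 1, 1, 0, 0, 0, 0, 0, 0, 0, 1, 1, 0, 0, 1, 0, 0, 1, 0, 1, 0, 0, 0, 0, 0, 1, 0, 0, 1, 1, 0, 1, 1, 0, 1, 0, 1, 0, 1, 0, 1, 0, 1],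
    [0, 0, 0, 0, 0, 0, 0, 0, 1, 1, 1, 0, 0, 0, 0, 0, 0, 0, 0, 0, 0, 0, 0, 0, 0, 0, 0, 0, 0, 0, 0, 0, 0, 0, 0, 0, 0, 0, 0, 0, 0, 0, 1, 0, 1, 0, 0, 0, 0, 0, 0, 0, 1, 0, 0, 1, 0, 0, 0, 0, 0, 1, 0, 0, 1, 1],
    [0, 0, 0, 0, 0, 0, 0, 0, 1, 1, 1, 0, 0, 0, 0, 0, 0, 0, 0, 0, 0, 0, 0, 0, 0, 0, 0, 0, 0, 0, 0, 0, 0, 0, 0, 0, 0, 0, 0, 0, 0, 0, 1, 0, 1, 0, 0, 0, 0, 0, 1, 0, 1, 0, 0, 1, 0, 0, 0, 1, 0, 0, 0, 0, 1, 1],
    [0, 0, 0, 0, 0, 0, 0, 0, 0, 0, 0, 0, 0, 0, 0, 0, 0, 0, 0, 0, 0, 0, 0, 0, 0, 0, 0, 0, 0, 1, 0, 0, 0, 0, 0, 1, 0, 1, 1, 1, 0, 0, 0, 0, 1, 0, 1, 1, 0, 0, 0, 0, 1, 0, 0, 1, 1, 0, 0, 1, 0, 0, 0, 1, 1],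
    [0, 0, 0, 0, 0, 0, 0, 0, 0, 0, 0, 0, 0, 0, 0, 0, 0, 0, 0, 0, 0, 0, 0, 0, 0, 0, 0, 0, 0, 0, 0, 1, 0, 0, 0, 1, 0, 1, 1, 0, 1, 0, 0, 0, 1, 1, 1, 0, 1, 0, 0, 0, 0, 0, 0, 1, 0, 1, 0, 0, 0, 0, 1, 1, 1],
    [0, 0, 0, 0, 0, 0, 0, 0, 0, 0, 0, 0, 0, 0, 0, 0, 0, 0, 0, 0, 0, 0, 0, 0, 0, 0, 0, 0, 0, 0, 0, 1, 0, 0, 0, 1, 0, 0, 1, 0, 0, 1, 1, 0, 1, 0, 0, 0, 0, 1, 1, 0, 1, 1, 1, 1, 0, 0, 1, 1, 0, 1, 1],
    [0, 0, 0, 0, 0, 0, 0, 0, 1, 1, 0, 0, 0, 0, 0, 0, 0, 0, 0, 0, 0, 0, 0, 0, 0, 0, 0, 0, 0, 0, 0, 0, 0, 0, 0, 0, 0, 0, 0, 0, 0, 0, 0, 1, 1, 0, 0, 0, 0, 0, 0, 0, 1, 0, 0, 1],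
    [0, 0, 0, 0, 0, 0, 0, 0, 0, 0, 0, 0, 0, 0, 0, 0, 0, 0, 0, 0, 0, 0, 0, 0, 0, 0, 0, 0, 0, 0, 1, 0, 0, 0, 0, 0, 1, 0, 0, 1, 0, 0, 0, 0, 0, 1, 1, 1, 0, 0, 0, 0, 0, 1, 1, 0, 0, 0, 0, 0, 1, 0, 0, 0, 1, 1],
    [0, 0, 0, 0, 0, 0, 0, 0, 0, 0, 0, 0, 0, 0, 0, 0, 0, 0, 0, 0, 0, 0, 0, 0, 0, 0, 0, 0, 0, 0, 0, 1, 0, 0, 0, 0, 1, 1, 1, 0, 1, 0, 0, 0, 0, 1, 0, 0, 1, 0, 0, 0, 1, 0, 1, 1, 0, 0, 0, 0, 0, 1, 0, 0, 1, 1],
    [0, 0, 0, 0, 0, 0, 0, 0, 0, 0, 0, 0, 0, 0, 0, 0, 0, 0, 0, 0, 0, 0, 0, 0, 0, 0, 0, 0, 0, 0, 0, 1, 0, 0, 0, 0, 1, 0, 1, 0, 0, 1, 0, 1, 0, 0, 1, 0, 0, 1, 0, 1, 0, 1, 0, 1, 0, 0, 0, 0, 1, 0, 0, 0, 0, 1],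
    [0, 0, 0, 0, 0, 0, 0, 0, 0, 0, 0, 0, 0, 0, 0, 0, 0, 0, 0, 0, 0, 0, 0, 0, 0, 0, 0, 0, 0, 0, 1, 0, 0, 0, 0, 0, 0, 0, 0, 0, 0, 0, 0, 0, 0, 0, 0, 0, 0, 0, 0, 0, 0, 1, 0, 0, 0, 0, 0, 0, 0, 0, 1],
    [0, 0, 0, 0, 0, 0, 0, 1, 0, 0, 0, 0, 0, 0, 0, 0, 0, 0, 0, 0, 0, 0, 0, 0, 0, 0, 0, 0, 0, 0, 0, 0, 0, 0, 0, 0, 0, 0, 1],
    [0, 0, 0, 0, 0, 0, 0, 0, 0, 0, 1, 0, 0, 0, 0, 0, 0, 0, 0, 0, 0, 0, 0, 0, 0, 0, 0, 0, 1, 0, 1, 1, 1, 0, 1, 0, 1, 1, 1, 0, 0, 0, 0, 1, 1, 1, 1, 0, 0, 0, 0, 0, 1, 1, 1, 1, 0, 0, 0, 0, 0, 1, 1, 1, 1, 1],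
    [0, 0, 0, 1, 1, 1, 1, 0, 0, 1, 1, 0, 0, 0, 0, 0, 0, 0, 0, 0, 0, 0, 1, 1, 0, 1, 0, 1, 0, 0, 0, 1, 0, 0, 1, 1, 0, 1, 1, 0, 1, 1, 1, 0, 0, 0, 1, 0, 0, 1, 1, 1, 0, 1, 1, 0, 0, 0, 1, 1, 0, 1, 1, 0, 0, 0, 0, 0, 1, 0, 0, 1, 0, 1, 1],
    [0, 0, 0, 0, 0, 1, 1, 0, 1, 1, 1, 0, 0, 0, 0, 1, 0, 0, 1, 0, 1, 0, 0, 0, 0, 1, 0, 0, 0, 0, 1, 1, 0, 0, 0, 0, 0, 0, 0, 0, 1, 1, 0, 0, 0, 0, 0, 0, 0, 0, 0, 0, 1, 1, 0, 1, 0, 1, 0, 0, 0, 1],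
    [0, 0, 0, 0, 0, 1, 1, 0, 1, 1, 1, 0, 0, 1, 0, 1, 0, 0, 0, 1, 1, 0, 1, 1, 1, 0, 0, 1, 0, 1, 1, 1, 0, 0, 0, 0, 1, 1, 1, 0, 0, 0, 0, 1, 0, 0, 0, 0, 1, 0, 0, 1, 0, 1, 0, 1, 0, 1, 1, 1, 0, 0, 1, 0, 1, 1, 0, 0, 0, 0, 0, 1, 1, 0, 1],
    [0, 1, 1, 1, 1, 1, 1, 0, 0, 1, 1, 0, 0, 0, 0, 0, 0, 0, 1, 1, 1, 0, 0, 0, 0, 1, 0, 1, 0, 0, 1, 1, 0, 0, 0, 0, 1, 0, 1, 0, 0, 0, 0, 0, 0, 0, 1, 0, 0, 0, 0, 0, 0, 0, 0, 1, 0, 1, 0, 1, 0, 1, 1, 1, 1, 1, 0, 0, 1, 0, 0, 0, 1, 1],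
    [0, 0, 0, 0, 0, 0, 1, 1, 0, 1, 0, 0, 0, 0, 0, 0, 0, 1, 0, 1, 1, 1, 0, 1, 1, 1, 1, 0, 0, 1, 1, 1, 0, 0, 1, 0, 1, 1, 0, 1, 0, 1, 0, 1, 0, 0, 0, 0, 0, 1, 0, 0, 0, 0, 0, 0, 1, 0, 1, 0, 0, 0, 1, 0, 0, 1],
    [0, 0, 0, 0, 1, 1, 0, 1, 1, 0, 0, 0, 0, 0, 0, 0, 0, 0, 0, 0, 0, 0, 0, 0, 0, 1, 0, 0, 0, 0, 1, 1, 0, 0, 0, 0, 0, 0, 1, 0, 0, 0, 0, 0, 1, 0, 0, 0, 0, 0, 0, 1, 0, 0, 0, 1]]
  tgt := [
    ([], []),
    ([], []),
    ([], []),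
    ([], []),
    ([], [(4, 1), (5, 1), (6, 1), (7, 1), (8, 1), (15, 1), (16, 1), (17, 1), (19, 1), (20, 1), (22, 1), (24, 1), (27, 1), (28, 1), (29, 1), (30, 1), (35, 1), (38, 1), (40, 1), (41, 1), (43, 1), (44, 1), (48, 1), (50, 1), (52, 1), (58, 1)]),
    ([], []),
    ([], [(6, 1), (8, 1), (9, 1), (10, 1), (14, 1), (16, 1), (17, 1), (18, 1), (19, 1), (22, 1), (25, 1), (26, 1), (27, 1), (31, 1), (35, 1), (37, 1), (40, 1), (41, 1), (43, 1), (46, 1), (48, 1), (49, 1), (51, 1)]),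
    ([], [(4, 1), (6, 1), (7, 1), (9, 1), (10, 1), (11, 1), (20, 1), (21, 1), (22, 1), (24, 1), (26, 1), (27, 1), (28, 1), (29, 1), (33, 1), (36, 1), (39, 1), (41, 1), (45, 1), (46, 1), (47, 1), (48, 1), (49, 1), (50, 1), (51, 1), (52, 1)]),
    ([], [(4, 1), (7, 1), (8, 1), (11, 1), (12, 1), (16, 1), (17, 1), (18, 1), (21, 1), (22, 1), (25, 1), (29, 1), (31, 1), (33, 1), (38, 1), (39, 1), (40, 1), (42, 1), (43, 1), (45, 1), (46, 1), (52, 1)]),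
    ([], [(1, 1), (4, 1), (11, 1), (15, 1), (16, 1), (17, 1), (18, 1), (21, 1), (22, 1), (23, 1), (25, 1), (26, 1), (27, 1), (29, 1), (30, 1), (36, 1), (39, 1), (41, 1), (45, 1), (46, 1), (47, 1), (48, 1), (49, 1)]),
    ([], [(1, 1), (5, 1), (7, 1), (9, 1), (11, 1), (14, 1), (16, 1), (17, 1), (18, 1), (22, 1), (23, 1), (24, 1), (26, 1), (27, 1), (30, 1), (31, 1), (35, 1), (36, 1), (37, 1), (38, 1), (39, 1), (40, 1), (41, 1), (42, 1), (43, 1), (45, 1), (46, 1), (47, 1), (48, 1), (50, 1), (51, 1), (52, 1)]),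
    ([], []),
    ([], []),
    ([], [(0, 1), (1, 1), (2, 1), (3, 1), (4, 1), (5, 1), (6, 1), (11, 1), (13, 1), (15, 1), (20, 1), (21, 1), (26, 1), (28, 1), (29, 1), (30, 1), (32, 1), (33, 1), (34, 1), (35, 1), (37, 1), (40, 1), (41, 1), (43, 1), (46, 1), (51, 1), (52, 1)]),
    ([], [(1, 1), (2, 1), (3, 1), (5, 1), (8, 1), (10, 1), (11, 1), (13, 1), (17, 1), (18, 1), (19, 1), (20, 1), (22, 1), (24, 1), (25, 1), (28, 1), (31, 1), (33, 1), (34, 1), (35, 1), (36, 1), (38, 1), (39, 1), (41, 1), (43, 1), (46, 1), (47, 1), (49, 1), (50, 1), (53, 1), (55, 1), (56, 1)]),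
    ([], []),
    ([], []),
    ([], [(1, 1), (4, 1), (6, 1), (8, 1), (9, 1), (10, 1), (13, 1), (14, 1), (15, 1), (17, 1), (18, 1), (19, 1), (24, 1), (27, 1), (32, 1), (33, 1), (38, 1), (40, 1), (41, 1), (43, 1), (44, 1), (49, 1), (50, 1), (51, 1), (52, 1), (57, 1)]),
    ([], [(5, 1), (6, 1), (8, 1), (13, 1), (15, 1), (16, 1), (20, 1), (21, 1), (22, 1), (25, 1), (27, 1), (29, 1), (30, 1), (38, 1), (39, 1), (42, 1), (44, 1), (45, 1), (46, 1), (48, 1), (50, 1), (58, 1)]),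
    ([], [(2, 1), (4, 1), (6, 1), (7, 1), (8, 1), (9, 1), (10, 1), (13, 1), (14, 1), (16, 1), (17, 1), (18, 1), (20, 1), (21, 1), (23, 1), (27, 1), (28, 1), (29, 1), (30, 1), (33, 1), (34, 1), (35, 1), (37, 1), (39, 1), (42, 1), (45, 1), (46, 1), (47, 1), (49, 1), (50, 1), (53, 1), (54, 1), (55, 1), (56, 1), (58, 1)]),
    ([], [(4, 1), (5, 1), (9, 1), (10, 1), (11, 1), (13, 1), (16, 1), (17, 1), (20, 1), (22, 1), (23, 1), (25, 1), (27, 1), (28, 1), (31, 1), (34, 1), (35, 1), (37, 1), (39, 1), (41, 1), (42, 1), (46, 1), (47, 1), (48, 1), (49, 1), (54, 1), (58, 1)]),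
    ([], [(0, 1), (2, 1), (3, 1), (10, 1), (12, 1), (14, 1), (18, 1), (19, 1), (21, 1), (23, 1), (24, 1), (25, 1), (27, 1), (29, 1), (31, 1), (32, 1), (36, 1), (37, 1), (39, 1), (41, 1), (42, 1), (43, 1), (44, 1), (46, 1), (47, 1), (48, 1), (49, 1), (50, 1), (53, 1), (54, 1), (55, 1), (56, 1)]),
    ([], [(0, 1), (2, 1), (3, 1), (4, 1), (7, 1), (11, 1), (13, 1), (14, 1), (15, 1), (16, 1), (21, 1), (22, 1), (23, 1), (25, 1), (27, 1), (30, 1), (31, 1), (32, 1), (34, 1), (39, 1), (46, 1), (48, 1), (49, 1), (53, 1), (55, 1), (56, 1), (58, 1)]),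
    ([], [(1, 1), (3, 1), (4, 1), (5, 1), (6, 1), (11, 1), (12, 1), (13, 1), (14, 1), (17, 1), (19, 1), (21, 1), (23, 1), (24, 1), (29, 1), (30, 1), (32, 1), (33, 1), (39, 1), (41, 1), (43, 1), (46, 1), (47, 1), (49, 1), (50, 1), (51, 1), (52, 1), (54, 1), (57, 1)]),
    ([], [(0, 1), (2, 1), (8, 1), (13, 1), (14, 1), (15, 1), (16, 1), (17, 1), (18, 1), (20, 1), (22, 1), (23, 1), (27, 1), (29, 1), (30, 1), (31, 1), (34, 1), (37, 1), (38, 1), (40, 1), (41, 1), (45, 1), (46, 1), (47, 1), (48, 1), (49, 1), (50, 1), (51, 1), (53, 1), (54, 1), (55, 1), (56, 1), (57, 1), (58, 1)]),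
    ([], [(0, 1), (1, 1), (4, 1), (5, 1), (6, 1), (8, 1), (10, 1), (14, 1), (19, 1), (22, 1), (24, 1), (29, 1), (33, 1), (34, 1), (35, 1), (39, 1), (43, 1), (45, 1), (46, 1), (51, 1), (52, 1), (54, 1), (57, 1), (58, 1)]),
    ([], [(0, 1), (4, 1), (5, 1), (7, 1), (9, 1), (11, 1), (13, 1), (14, 1), (15, 1), (19, 1), (23, 1), (26, 1), (28, 1), (29, 1), (31, 1), (33, 1), (36, 1), (38, 1), (40, 1), (41, 1), (42, 1), (50, 1), (51, 1), (52, 1), (57, 1)]),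
    ([], [(0, 1), (1, 1), (2, 1), (3, 1), (5, 1), (6, 1), (7, 1), (10, 1), (13, 1), (14, 1), (15, 1), (16, 1), (17, 1), (18, 1), (21, 1), (22, 1), (25, 1), (26, 1), (28, 1), (29, 1), (32, 1), (34, 1), (36, 1), (40, 1), (43, 1), (44, 1), (45, 1), (49, 1), (52, 1), (53, 1), (55, 1), (56, 1), (58, 1)]),
    ([], [(4, 1), (5, 1), (6, 1), (8, 1), (11, 1), (14, 1), (16, 1), (17, 1), (19, 1), (20, 1), (21, 1), (23, 1), (25, 1), (27, 1), (34, 1), (36, 1), (37, 1), (39, 1), (41, 1), (42, 1), (47, 1), (49, 1), (51, 1), (52, 1), (54, 1), (58, 1)]),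
    ([], [(1, 1), (2, 1), (4, 1), (6, 1), (8, 1), (9, 1), (17, 1), (20, 1), (21, 1), (23, 1), (26, 1), (27, 1), (29, 1), (33, 1), (35, 1), (36, 1), (37, 1), (38, 1), (39, 1), (40, 1), (43, 1), (47, 1), (51, 1), (52, 1), (53, 1), (55, 1), (56, 1)]),
    ([], [(6, 1), (8, 1), (9, 1), (10, 1), (14, 1), (16, 1), (17, 1), (18, 1), (19, 1), (22, 1), (24, 1), (25, 1), (26, 1), (27, 1), (31, 1), (35, 1), (37, 1), (40, 1), (41, 1), (43, 1), (46, 1), (48, 1), (49, 1), (51, 1)]),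
    ([], [(0, 1), (1, 1), (7, 1), (10, 1), (15, 1), (16, 1), (18, 1), (22, 1), (24, 1), (26, 1), (29, 1), (31, 1), (33, 1), (34, 1), (36, 1), (37, 1), (38, 1), (39, 1), (43, 1), (44, 1), (45, 1), (46, 1), (47, 1), (48, 1), (49, 1), (50, 1), (52, 1), (54, 1), (57, 1), (58, 1)]),
    ([], [(0, 1), (10, 1), (13, 1), (17, 1), (18, 1), (19, 1), (20, 1), (23, 1), (26, 1), (27, 1), (28, 1), (30, 1), (31, 1), (33, 1), (35, 1), (38, 1), (40, 1), (45, 1), (47, 1), (48, 1), (57, 1)]),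
    ([], [(0, 1), (1, 1), (5, 1), (9, 1), (10, 1), (13, 1), (15, 1), (17, 1), (18, 1), (19, 1), (20, 1), (23, 1), (26, 1), (28, 1), (29, 1), (31, 1), (33, 1), (34, 1), (35, 1), (39, 1), (45, 1), (47, 1), (48, 1), (49, 1), (50, 1), (52, 1), (54, 1), (57, 1), (58, 1)]),
    ([], [(0, 1), (4, 1), (7, 1), (11, 1), (12, 1), (13, 1), (16, 1), (18, 1), (19, 1), (20, 1), (23, 1), (25, 1), (27, 1), (31, 1), (34, 1), (36, 1), (40, 1), (41, 1), (43, 1), (45, 1), (46, 1), (49, 1), (51, 1), (54, 1), (57, 1), (58, 1)]),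
    ([], [(0, 1), (2, 1), (8, 1), (10, 1), (11, 1), (13, 1), (15, 1), (18, 1), (20, 1), (21, 1), (23, 1), (24, 1), (25, 1), (26, 1), (31, 1), (33, 1), (34, 1), (35, 1), (36, 1), (40, 1), (43, 1), (44, 1), (46, 1), (48, 1), (50, 1), (51, 1), (53, 1), (54, 1), (55, 1), (56, 1), (57, 1), (58, 1)]),
    ([], [(0, 1), (1, 1), (2, 1), (5, 1), (6, 1), (7, 1), (10, 1), (11, 1), (12, 1), (13, 1), (14, 1), (15, 1), (21, 1), (22, 1), (24, 1), (29, 1), (33, 1), (34, 1), (36, 1), (37, 1), (38, 1), (39, 1), (40, 1), (41, 1), (42, 1), (44, 1), (48, 1), (49, 1), (52, 1), (53, 1), (54, 1), (55, 1), (56, 1), (57, 1), (58, 1)]),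
    ([], [(1, 1), (2, 1), (7, 1), (8, 1), (10, 1), (11, 1), (12, 1), (18, 1), (19, 1), (22, 1), (23, 1), (25, 1), (27, 1), (29, 1), (33, 1), (35, 1), (37, 1), (39, 1), (40, 1), (42, 1), (44, 1), (46, 1), (47, 1), (48, 1), (50, 1), (52, 1), (53, 1), (55, 1), (56, 1)]),
    ([], [(4, 1), (6, 1), (7, 1), (9, 1), (10, 1), (11, 1), (20, 1), (21, 1), (22, 1), (24, 1), (26, 1), (27, 1), (28, 1), (29, 1), (33, 1), (36, 1), (39, 1), (41, 1), (45, 1), (46, 1), (47, 1), (48, 1), (49, 1), (50, 1), (52, 1)]),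
    ([], [(0, 1), (2, 1), (4, 1), (6, 1), (9, 1), (10, 1), (12, 1), (13, 1), (18, 1), (21, 1), (24, 1), (28, 1), (29, 1), (30, 1), (32, 1), (34, 1), (35, 1), (36, 1), (41, 1), (42, 1), (45, 1), (46, 1), (47, 1), (49, 1), (50, 1), (53, 1), (54, 1), (55, 1), (56, 1), (57, 1), (58, 1)]),
    ([], [(2, 1), (5, 1), (6, 1), (7, 1), (8, 1), (12, 1), (14, 1), (15, 1), (17, 1), (19, 1), (21, 1), (22, 1), (23, 1), (25, 1), (28, 1), (34, 1), (35, 1), (36, 1), (38, 1), (40, 1), (41, 1), (44, 1), (47, 1), (48, 1), (49, 1), (51, 1), (52, 1), (53, 1), (55, 1), (56, 1)]),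
    ([], [(1, 1), (2, 1), (4, 1), (6, 1), (8, 1), (9, 1), (10, 1), (12, 1), (13, 1), (14, 1), (17, 1), (18, 1), (22, 1), (23, 1), (25, 1), (26, 1), (30, 1), (31, 1), (37, 1), (40, 1), (42, 1), (44, 1), (45, 1), (48, 1), (50, 1), (52, 1), (53, 1), (55, 1), (56, 1)]),
    ([], [(4, 1), (10, 1), (11, 1), (13, 1), (15, 1), (16, 1), (21, 1), (23, 1), (27, 1), (29, 1), (31, 1), (36, 1), (38, 1), (44, 1), (46, 1), (47, 1), (48, 1), (50, 1), (51, 1), (52, 1)]),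
    ([], [(1, 1), (4, 1), (6, 1), (8, 1), (9, 1), (10, 1), (11, 1), (15, 1), (17, 1), (18, 1), (19, 1), (20, 1), (21, 1), (22, 1), (23, 1), (26, 1), (27, 1), (31, 1), (35, 1), (39, 1), (41, 1), (45, 1), (49, 1), (51, 1), (52, 1)]),
    ([], [(31, 1)]),
    ([], [(4, 1), (5, 1), (7, 1), (9, 1), (10, 1), (15, 1), (16, 1), (17, 1), (20, 1), (21, 1), (22, 1), (24, 1), (25, 1), (27, 1), (28, 1), (30, 1), (36, 1), (38, 1), (40, 1), (41, 1), (42, 1), (43, 1), (44, 1), (47, 1), (50, 1)]),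
    ([], [(4, 1), (6, 1), (7, 1), (9, 1), (13, 1), (14, 1), (16, 1), (18, 1), (24, 1), (25, 1), (33, 1), (35, 1), (37, 1), (38, 1), (44, 1), (46, 1), (47, 1), (49, 1), (50, 1), (51, 1), (52, 1)]),
    ([], [(1, 1), (4, 1), (6, 1), (8, 1), (9, 1), (10, 1), (15, 1), (16, 1), (21, 1), (22, 1), (23, 1), (26, 1), (28, 1), (29, 1), (30, 1), (32, 1), (33, 1), (38, 1), (39, 1), (40, 1), (41, 1), (45, 1), (49, 1)]),
    ([], [(1, 1), (2, 1), (4, 1), (7, 1), (8, 1), (13, 1), (14, 1), (15, 1), (19, 1), (20, 1), (21, 1), (24, 1), (27, 1), (31, 1), (34, 1), (35, 1), (38, 1), (39, 1), (41, 1), (42, 1), (45, 1), (46, 1), (48, 1), (49, 1), (50, 1), (52, 1), (53, 1), (55, 1), (56, 1)]),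
    ([], [(1, 1), (5, 1), (6, 1), (7, 1), (8, 1), (10, 1), (13, 1), (14, 1), (17, 1), (18, 1), (19, 1), (20, 1), (21, 1), (22, 1), (23, 1), (25, 1), (30, 1), (31, 1), (33, 1), (35, 1), (36, 1), (37, 1), (40, 1), (41, 1), (43, 1), (44, 1), (46, 1), (47, 1), (50, 1), (51, 1), (52, 1)]),
    ([], [(4, 1), (11, 1), (13, 1), (15, 1), (16, 1), (21, 1), (23, 1), (27, 1), (29, 1), (31, 1), (36, 1), (38, 1), (44, 1), (46, 1), (47, 1), (48, 1), (50, 1), (51, 1), (52, 1)]),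
    ([], [(1, 1), (4, 1), (11, 1), (14, 1), (15, 1), (21, 1), (23, 1), (25, 1), (28, 1), (30, 1), (37, 1), (39, 1), (40, 1), (42, 1), (43, 1), (45, 1), (48, 1), (52, 1)]),
    ([], [(1, 1), (4, 1), (11, 1), (14, 1), (15, 1), (21, 1), (23, 1), (25, 1), (30, 1), (31, 1), (37, 1), (39, 1), (40, 1), (42, 1), (43, 1), (45, 1), (46, 1), (48, 1), (52, 1)]),
    ([], [(4, 1), (5, 1), (6, 1), (7, 1), (8, 1), (13, 1), (14, 1), (15, 1), (16, 1), (17, 1), (19, 1), (20, 1), (27, 1), (30, 1), (31, 1), (35, 1), (38, 1), (40, 1), (41, 1), (42, 1), (43, 1), (44, 1), (46, 1), (47, 1), (48, 1), (50, 1), (51, 1), (52, 1)]),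
    ([], [(6, 1), (7, 1), (9, 1), (11, 1), (13, 1), (15, 1), (17, 1), (18, 1), (19, 1), (20, 1), (22, 1), (23, 1), (25, 1), (27, 1), (28, 1), (29, 1), (30, 1), (33, 1), (50, 1), (51, 1), (52, 1)]),
    ([], [(1, 1), (6, 1), (7, 1), (9, 1), (10, 1), (12, 1), (14, 1), (15, 1), (17, 1), (18, 1), (19, 1), (20, 1), (22, 1), (23, 1), (25, 1), (33, 1), (35, 1), (36, 1), (37, 1), (38, 1), (47, 1), (51, 1), (52, 1)]),
    ([], [(4, 1), (5, 1), (7, 1), (9, 1), (11, 1), (15, 1), (16, 1), (17, 1), (18, 1), (21, 1), (22, 1), (24, 1), (27, 1), (30, 1), (31, 1), (33, 1), (36, 1), (38, 1), (39, 1), (40, 1), (41, 1), (42, 1), (43, 1), (44, 1), (45, 1)]),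
    ([], [(4, 1), (6, 1), (8, 1), (9, 1), (10, 1), (11, 1), (15, 1), (16, 1), (17, 1), (18, 1), (19, 1), (20, 1), (23, 1), (24, 1), (26, 1), (27, 1), (28, 1), (30, 1), (31, 1), (35, 1), (39, 1), (41, 1), (42, 1), (45, 1), (46, 1), (49, 1), (51, 1), (52, 1)]),
    ([], [(1, 1), (5, 1), (7, 1), (9, 1), (11, 1), (13, 1), (14, 1), (16, 1), (17, 1), (18, 1), (20, 1), (21, 1), (22, 1), (23, 1), (25, 1), (26, 1), (38, 1), (39, 1), (40, 1), (42, 1), (43, 1), (44, 1), (45, 1), (46, 1), (47, 1), (48, 1), (49, 1)]),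
    ([], [(1, 1), (4, 1), (6, 1), (8, 1), (9, 1), (11, 1), (13, 1), (14, 1), (15, 1), (16, 1), (17, 1), (18, 1), (19, 1), (20, 1), (23, 1), (24, 1), (26, 1), (27, 1), (28, 1), (30, 1), (31, 1), (35, 1), (39, 1), (41, 1), (42, 1), (45, 1), (46, 1), (49, 1), (51, 1), (52, 1)]),
    ([], [(1, 1), (4, 1), (6, 1), (8, 1), (9, 1), (10, 1), (11, 1), (15, 1), (16, 1), (17, 1), (18, 1), (19, 1), (20, 1), (21, 1), (22, 1), (23, 1), (24, 1), (26, 1), (27, 1), (28, 1), (30, 1), (31, 1), (35, 1), (39, 1), (41, 1), (42, 1), (45, 1), (46, 1), (49, 1), (51, 1), (52, 1)]),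
    ([], [(1, 1), (6, 1), (8, 1), (9, 1), (14, 1), (17, 1), (18, 1), (19, 1), (20, 1), (21, 1), (24, 1), (26, 1), (28, 1), (29, 1), (30, 1), (35, 1), (36, 1), (38, 1), (39, 1), (44, 1), (45, 1), (47, 1), (48, 1), (49, 1), (50, 1)]),
    ([], [(4, 1), (5, 1), (7, 1), (9, 1), (10, 1), (13, 1), (15, 1), (18, 1), (20, 1), (22, 1), (24, 1), (25, 1), (26, 1), (30, 1), (37, 1), (38, 1), (42, 1), (44, 1), (47, 1), (49, 1), (52, 1)]),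
    ([], [(1, 1), (4, 1), (5, 1), (7, 1), (9, 1), (14, 1), (15, 1), (17, 1), (18, 1), (20, 1), (22, 1), (24, 1), (26, 1), (37, 1), (38, 1), (42, 1), (45, 1), (47, 1), (48, 1), (52, 1)]),
    ([], [(1, 1), (4, 1), (6, 1), (8, 1), (9, 1), (12, 1), (14, 1), (15, 1), (17, 1), (19, 1), (21, 1), (23, 1), (24, 1), (25, 1), (27, 1), (29, 1), (30, 1), (31, 1), (35, 1), (39, 1), (41, 1), (43, 1), (45, 1), (46, 1), (47, 1), (48, 1), (49, 1), (50, 1), (51, 1)]),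
    ([], [(4, 1), (5, 1), (6, 1), (7, 1), (8, 1), (11, 1), (12, 1), (13, 1), (14, 1), (15, 1), (18, 1), (19, 1), (24, 1), (25, 1), (26, 1), (28, 1), (29, 1), (30, 1), (36, 1), (37, 1), (38, 1), (40, 1), (42, 1), (49, 1), (52, 1)])]

/-- Orbits inside the subgroup. -/
def orbits : List (ℕ × List (ℕ × List ℕ)) := [
    (16, [(16, []), (880, [3, 4, 10]), (2097184, [0, 2, 5, 7, 8, 10]), (2099280, [1]), (2621552, [0, 1, 2, 6, 7, 8]), (3171888, [0, 6, 7, 8]), (3700560, [1, 5, 6, 10]), (3702688, [0, 4, 5, 6, 9, 10]), (17179869696, [1, 8]), (17179902224, [0, 2, 5]), (17213724080, [0, 6, 8, 9, 10]), (17314119696, [0, 1, 2, 6, 8, 9, 10]), (17347917168, [0, 1, 5, 6, 7, 9]), (17347950304, [4, 5, 6, 10]), (19404947462, [0, 1, 8]), (19404986678, [4, 5, 7, 9]), (19439376086, [0, 2, 6, 7, 8]), (19439406950, [4, 6, 8, 10]), (19544933334, [0, 5, 6,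 8, 9]), (19578322854, [0, 2, 3, 6, 8]), (22030581766, [1, 5, 9]), (22030625366, [0, 3, 9, 10]), (22070320166, [0, 2, 4, 6, 8, 9]), (22166267318, [4, 6, 10]), (22166294374, [0, 2, 6, 10]), (22203116470, [0, 1, 3]), (24253610450, [2, 4, 6, 10]), (24253610674, [1, 2, 5, 6, 8]), (24422908370, [2, 3, 6, 8, 9]), (24422908594, [2, 4, 6]), (24422955026, [10]), (24422955890, [3, 4]), (70368744177664, [2, 6, 10]), (70368753090592, [0, 1, 2, 5, 8]), (70369015234592, [2, 4, 5, 8, 9]), (70506530232400, [0, 2, 5, 9]), (70643932567471, [3, 8, 10]), (70781169089391, [0, 1, 6, 8, 10]), (70781436032751, [1, 4, 9]), (70781445989903, [0, 5, 6, 10]), (71606853646239, [6, 10]), (71606864150367, [4, 6, 9, 10]), (71607055445567, [0, 2, 5, 6, 7]), (71607063293679, [0, 1, 2, 10]), (71744241172995, [0, 2, 6, 8, 10]), (71744251681459, [2, 4, 9, 10]), (71744587749363,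 [1, 2, 4, 5]), (71881779832323, [0, 2, 4, 5, 6, 9]), (112201728812544, [0, 3, 8, 9]), (112201738850608, [2, 3, 9, 10]), (112202144147000, [2, 3, 4, 10]), (112339266581009, [0, 6, 9, 10]), (112616397635582, [6, 7, 10]), (112616401377342, [1, 5]), (112616531421174, [0, 1, 5, 9, 10]), (112616534994662, [0, 10]), (113865623208463, [0, 5, 8]), (113865636445039, [2, 5, 10]), (113865870697399, [2, 4, 5]), (114003226496630, [0, 3, 5, 6, 8]), (114143000462059, [3, 5, 6, 9]), (114280047312898, [0, 2, 7, 8]), (114280411822138, [0, 2, 4, 6, 7, 9]), (114280416964250, [5, 6, 10]), (1125899906842624, [0, 4, 6, 9, 10]), (1125972921287168, [0, 5, 6, 7, 9, 10]), (1125985940406784, [5, 6, 8, 9]), (1126522678292205, [0, 2, 3, 4, 5]), (1128189695140112, [3]), (1128666441497453, [2, 6, 8]), (1128670870641149, [0, 2, 3, 8, 10]), (1128718115684269, [1,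 2, 3, 4]), (1143526452690989, [0, 2, 3, 5, 6]), (1144076209555491, [1, 6, 7, 8]), (1144097684695731, [6]), (1144162645806707, [0, 2, 4, 5, 9, 10]), (1144167075229683, [0, 2, 5, 6, 8]), (1145728194000125, [2, 4, 9]), (1145749669131645, [0, 2, 6, 7]), (1145796510979645, [2, 5, 6, 9, 10]), (1170023320267344, [6, 7]), (1170036100437024, [3, 5]), (1170104954664570, [0, 7, 9, 10]), (1170109119733306, [0, 4, 5, 9, 10]), (1170590308161373, [0, 6, 7]), (1172772682902044, [0, 1]), (1172785404360700, [2, 3, 9]), (1172837111308278, [2, 7, 9, 10]), (1187933410294637, [0, 2]), (1188002532774647, [5, 6]), (1188015447170903, [0, 2, 4, 6, 10]), (1188569652347817, [0, 4, 5, 6]), (1190203198967606, [3, 5, 6, 8, 9]), (1190697774750674, [0, 3, 4, 5]), (1190701930905602, [2, 5, 8, 10]), (1190770249602232, [1, 2, 7]), (1618564087808738, [0, 3]), (1619266496026539,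 [4, 5, 8, 10]), (1621093046036496, [0]), (1621097471587058, [2, 5, 6, 9]), (1621195368558900, [2, 4, 5, 8, 10]), (1621524762635179, [0, 2, 5, 6, 8, 10]), (1621584154933101, [5, 6, 7, 9]), (1621607701224489, [0, 1, 2, 6, 10]), (1641625022994491, [0, 1, 6, 8]), (1641629203317609, [0, 5, 7, 8, 9]), (1641688435393039, [6, 7, 8]), (1641703553581995, [4, 5, 6, 8, 9]), (1642292692715555, [2, 6]), (1642371501103011, [0, 1, 5, 6, 9]), (1642395171841847, [2, 4, 10]), (1644713767332769, [0, 1, 3, 8]), (1663699607617536, [2, 4, 5, 9]), (1663776257485498, [0, 1, 2]), (1663780426238712, [2, 7, 9]), (1664116351697423, [0, 6, 10]), (1664131370681787, [1, 3, 10]), (1664212155607971, [0, 4, 5, 9]), (1666060439770325, [0, 1, 2, 3]), (1666728295332606, [1, 6]), (1684912945425327, [6, 8, 10]), (1684927934145755, [4]), (1684967978154855, [0, 2, 3, 8]),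 (1684972114285077, [0, 2, 7, 8, 10]), (1685325247073201, [0, 2, 5, 7]), (1685340264084853, [2, 3]), (1685399424762383, [2, 5]), (1687389568597920, [0, 2, 4, 6, 9]), (1899956092796928, [2, 4, 6, 8, 9]), (1899962729759584, [2, 4, 6, 8, 9, 10]), (1899974048088930, [2, 4, 6, 7]), (1899980346359810, [2, 3, 6]), (1900060683535200, [8, 9]), (1900066981806944, [7]), (1900078300136290, [8, 9, 10]), (1900084937098082, [7, 10]), (1948473387646976, [0, 2, 5, 8, 9]), (1948480029014800, [3, 8, 9]), (1948599447940920, [0, 1, 2, 6, 8]), (1949304701535149, [0, 3, 4, 6]), (1949399951570791, [0, 1, 5, 6, 10]), (1949406206656407, [3, 5, 6, 8]), (1950552388035962, [0, 1, 2, 3, 4, 6]), (1950653886758912, [3, 9, 10]), (1950660528156784, [0, 2, 5, 7, 9, 10]), (1951376980882679, [0, 3, 5, 6, 10]), (1951383227938663, [3, 5, 6]), (1951468353782287, [0, 6,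 8]), (1954159487749695, [0, 2, 3, 6, 8, 9]), (1954177538490883, [0, 1, 2, 4]), (1954183844354995, [3, 6, 8]), (1954416615295011, [3, 6]), (1954423253623539, [0, 2, 6, 8, 9]), (1954458790358941, [0, 2, 4, 6, 8]), (1956480858406068, [0, 3, 8]), (1956483118886628, [1, 5, 7, 9]), (1956515589970810, [0, 1, 3, 9]), (1956772349774136, [0, 1, 4, 10]), (1956790536230820, [0, 4]), (1956792587499156, [4, 5, 9]), (2040811969577890, [4, 5]), (2041675777088233, [1, 2, 4, 5, 10]), (2041677761520091, [0, 7, 9]), (2041774102771567, [2, 4, 5, 8]), (2043280114921193, [0, 4, 8]), (2043601388846002, [0, 2, 5, 6, 7, 10]), (2043692503693908, [5, 6, 7, 9, 10]), (2043711170990576, [0, 1, 2, 6, 7, 9]), (2068225739276333, [2, 4]), (2068245614363369, [0, 3, 5, 6, 9, 10]), (2068251893475865, [2, 6, 8, 10]), (2070704630290039, [6, 7, 8, 10]), (2070723393367779,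 [4, 5, 6, 9]), (2070727361362785, [0, 5, 8, 10]), (2070729394913795, [0, 4, 6, 9]), (2071114616022235, [0, 5, 6, 9, 10]), (2090428302838712, [0, 2, 3, 6]), (2090997667350573, [0, 2, 10]), (2091004286665583, [0, 2, 4, 8, 9]), (2091115448137557, [6, 8]), (2091131136232177, [4, 8, 10]), (2092922375790645, [2, 5, 8]), (2093040148536045, [2, 3, 10]), (2093054793637273, [0, 2, 5, 8, 10]), (2098197341294297, [2, 4, 5, 9, 10]), (2098221378886371, [2, 3, 4]), (2098227645995889, [0, 2, 4, 5, 9]), (2098611981610389, [1, 6, 8, 10]), (2100104315761844, [0, 6, 7, 9]), (2100118748659712, [1, 3]), (2100147081544634, [0, 1, 5, 9]), (2101087513197500, [0, 1, 2, 4, 8]), (2252908185799861, [0, 2, 3]), (2256199001063456, [0, 3, 4, 10]), (2257298791612448, [2, 4, 6, 9, 10]), (2257307381603541, [3, 4, 5]), (2261730602599136, [5, 7, 10]), (2261739192659797,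 [7, 9, 10]), (2266138388349860, [0, 2, 4, 9]), (2273879234331552, [5, 7]), (2273887824106869, [8, 10]), (2274979024854643, [0, 8, 10]), (2278313183937024, [2, 3, 6, 8]), (2278321773782421, [5, 7, 8, 9]), (2326576346256597, [0, 2, 6, 9]), (2335544709176180, [2, 6, 7, 8, 10]), (2336635913318113, [2, 4, 8, 10]), (2340121554747919, [6, 8, 9, 10]), (2341221337075548, [0, 2, 3, 8, 9]), (2341229936234969, [0, 4, 6, 8, 10]), (2345631260121833, [0, 1, 2, 6]), (2350202748447657, [3, 6, 9]), (2397074199429152, [0, 3, 6]), (2398182058824885, [4, 5, 7]), (2402476396867310, [0, 2, 3, 5, 6, 10]), (2405913797270271, [1, 2, 8]), (2411873936238086, [5, 6, 9, 10]), (2419608903699422, [0, 1, 10]), (2420699556162040, [2, 6, 7, 10]), (2420708130022973, [0, 5, 7, 8]), (2462906316750848, [1, 2, 4, 8]), (2471874813776763, [3, 5, 6, 8, 10]), (2471883428494910,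 [1, 7, 8]), (2472974073795515, [0, 1, 2, 8, 9]), (2476136426387306, [2, 5, 7, 9]), (2477235694829482, [0, 2, 4, 6, 7, 8]), (2481418357520666, [0, 1, 3, 10]), (2482508983831132, [0, 2, 3, 4, 10]), (2487047768797500, [0, 1, 5, 6]), (2487056367458201, [0, 2, 5, 8, 9, 10]), (2490381463027620, [0, 7, 8]), (2495744487017910, [0, 4, 6, 10]), (2569704986659986, [2, 5, 9]), (2573133249796213, [2, 7]), (2574370471432277, [1, 2, 3, 4, 6]), (2577842093466389, [0, 3, 5, 9]), (2579087930406514, [5, 9, 10]), (2583761967305299, [2, 5, 8, 9]), (2588349294740626, [0, 2, 8]), (2593025525251890, [5, 7, 8, 10]), (2594254152916118, [2, 7, 8]), (2597719336296725, [1, 2, 6, 10]), (2598956579089558, [0, 4, 5, 8, 9]), (2602399857731891, [0, 2, 7]), (2638836769752242, [0, 3, 5, 6, 9]), (2644747534537874, [1, 2]), (2648348621601637, [0, 4, 5, 8]), (2653031148526307,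 [0, 2, 4, 6, 7]), (2664347790492521, [2, 9, 10]), (2664356371305886, [0, 7, 10]), (2668509286617213, [5, 6, 7]), (2673593117180431, [4, 5, 6, 9, 10]), (2714007365488693, [0, 2, 3, 6, 9]), (2718580951805598, [0, 2, 5, 9, 10]), (2719817608314494, [0, 4, 5, 8, 10]), (2719826216221545, [0, 1, 2, 9]), (2724360681869160, [2, 3, 8, 9]), (2729638296001298, [6, 9, 10]), (2734441205411557, [2, 9]), (2735403014456278, [3, 8]), (2779575074424050, [0, 5, 7, 9]), (2785338172381237, [0, 2, 5, 6, 10]), (2789086926255854, [0, 2, 5, 7, 8]), (2789095506361305, [4, 5, 6]), (2790049258530318, [0, 4, 5, 7, 9]), (2801518889525566, [0, 2, 4, 9, 10]), (2804534826283290, [2, 7, 8, 10]), (2805497172270121, [1, 10]), (2805505785488126, [0, 3, 5, 6, 8, 9]), (2808688582475681, [2, 5, 6]), (2812671002935296, [0, 3, 4, 5, 6]), (2812679620081511, [0, 1, 2, 5, 6,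 8]), (2820620227150332, [3, 5, 8]), (2825865813819904, [2, 6, 7, 8]), (2825876584965269, [0, 5, 8, 9, 10]), (2827251333540117, [0, 1, 2, 6, 9]), (2830275772146621, [5, 6, 9]), (2833744632042534, [2, 3, 5, 8]), (2838135069987802, [0, 4, 6, 8]), (2843404346205845, [0, 1, 7, 8]), (2885216567820294, [2, 10]), (2886579907625475, [0, 2, 6, 7, 9]), (2886590620425590, [0, 3, 8, 10]), (2890987654338175, [0, 2, 4]), (2896384088264550, [0, 2, 3, 5, 6, 8]), (2897758295769830, [0, 5, 7]), (2900781125851262, [0, 2, 5, 6, 7, 9]), (2903839242899306, [2, 5, 6, 7, 8, 10]), (2908227660414982, [0, 6, 8, 9]), (2918575171781348, [4, 6, 7, 8]), (2918581655465585, [4, 5, 8, 9]), (2919405960486802, [0, 4, 5]), (2996680016768188, [5, 7, 9]), (3001798100972126, [0, 5, 7, 10]), (3003161450086907, [1, 2, 6, 8, 9]), (3008842015026421, [0, 8, 9, 10]), (3013369866177497,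 [2, 3, 5, 6]), (3019876154990238, [5, 8]), (3021250187982701, [0, 5, 9]), (3024410493583366, [0, 7, 8, 10]), (3062513511094358, [0, 6, 7, 9, 10]), (3065662529614106, [2, 3, 8]), (3073668942914232, [0, 2, 7, 9]), (3073679699547181, [0, 5, 8, 9]), (3077939291241397, [4, 5, 10]), (3079486383210409, [0, 4, 8, 10]), (3084012210917397, [2, 5, 7]), (3091472148524404, [6, 7, 8, 9]), (3133054606633074, [2, 3, 8, 9, 10]), (3136210039266492, [3, 10]), (3144556944218021, [0, 4, 5, 7]), (3144567647895554, [0, 1, 2, 7]), (3155925952298812, [2, 8, 9]), (3156888224163343, [0, 2, 4, 6]), (3159881525840374, [0, 2, 5, 7, 8, 9]), (3163051970121578, [6, 9]), (3203417926514806, [3, 5, 9]), (3203424327560753, [0, 2, 6]), (3207546482352632, [2, 6, 8, 9, 10]), (3214800037882609, [0, 2, 7, 10]), (3222861079818234, [0, 1, 2, 3, 4]), (3226029435720743, [2,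 5, 9, 10]), (3229162201192366, [0, 1, 6, 7, 8]), (3229839008195514, [0, 2, 3, 5, 6, 8, 9]), (3229849704279789, [0, 6, 8, 10]), (3233275775594513, [0, 4, 8, 9]), (3233282193829302, [4, 6]), (3234512946416082, [0, 8]), (3238608856935333, [2, 5, 6, 7, 8]), (3241906611796252, [0, 2, 3, 4]), (3242587106771691, [7, 8, 10]), (3242593604754476, [2, 3, 5, 6, 9]), (3248609628977246, [2, 3, 4, 5]), (3250110342007321, [2, 4, 5, 6, 9]), (3250121126469022, [2, 4, 6, 7, 9]), (3254105845130758, [2, 5, 6, 7, 10]), (3257364920113893, [0, 1, 2, 4, 5, 10]), (3262165518223419, [1, 2, 6, 9]), (3262176303031516, [2, 4, 6, 8]), (3262863300126079, [0, 2, 9]), (3263373959709609, [9, 10]), (3263384719320590, [1, 2, 6, 7, 9]), (3264896221075293, [2, 5, 7, 9, 10]), (3268191811689510, [0, 2, 5, 6, 7, 9, 10]), (3307458533000913, [1, 3, 9]), (3308970151492449,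 [0, 1, 2, 3, 5]), (3312956911606824, [0, 2, 5, 7, 10]), (3320340619110490, [0, 5, 6, 7]), (3334153930662389, [4, 10]), (3338142828659565, [2, 3, 4, 5, 6]), (3338149285377770, [0, 2, 3, 5, 9]), (3339654439563966, [1, 2, 8, 9, 10]), (3379349259552813, [2, 4, 8]), (3384311520818917, [0, 2, 3, 5, 6, 9]), (3386560909550997, [1, 6, 8]), (3393145597613089, [0, 2, 4, 8]), (3393158616966004, [0, 4, 6, 7]), (3397040364546523, [2, 6, 7]), (3403641305209579, [0, 2, 3, 4, 6]), (3410795765618593, [6, 8, 9]), (3491564004337160, [5, 8, 10]), (3492187444609024, [0, 2, 3, 9, 10]), (3493836996757549, [2, 3, 5, 6, 10]), (3501224795213679, [0, 1, 2, 8, 9, 10]), (3507822365278735, [1, 2, 6, 8, 9, 10]), (3510149040575530, [5, 7, 9, 10]), (3511794427055537, [0, 2, 4, 10]), (3516743587992350, [0, 2, 4, 5, 8, 10]), (3518571177050118, [0, 3, 5, 8]), (3525293557699155,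 [0, 6, 7, 8, 10]), (3526955336874523, [0, 2, 3, 9]), (3528964176897536, [0, 5, 9, 10]), (3534051414616860, [2, 5, 6, 7]), (3535687675429796, [0, 2, 6, 8, 9, 10]), (3535700410341169, [0, 4, 10]), (3536613782128675, [4, 6, 7]), (3536626817281878, [4, 5, 9, 10]), (3537176305717096, [0, 1, 2, 4, 5]), (3545951444070099, [0, 1, 2, 6, 8, 9]), (3552688746638578, [2, 8, 10]), (3624060522595954, [0, 6, 9]), (3625709520159247, [2, 5, 7, 8, 10]), (3625722301804090, [0, 2, 4, 8, 10]), (3632443609195487, [1, 4, 10]), (3639504152847880, [4, 6, 9]), (3642975859147267, [0, 2, 6, 8]), (3651380880332710, [1, 2, 9]), (3657842086472663, [0, 2, 8, 9, 10]), (3694436517152402, [1, 5, 6, 9]), (3701305765067621, [2, 8, 9, 10]), (3701310194286498, [0, 9, 10]), (3703097166605087, [1, 2, 10]), (3715967330647980, [0, 2, 4, 6, 9, 10]), (3723541799380114, [1, 3,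 8]), (3724225126613867, [0, 3, 5]), (3726701585055789, [0, 4, 5, 6, 8, 9]), (3731458545137055, [0, 1, 5]), (3736542401304482, [2, 6, 7, 9]), (3738328846775039, [9]), (3738333263877976, [1, 2, 6, 8]), (3739101114167010, [0, 4, 6]), (3739513134383631, [1, 2, 6, 7, 8]), (3739517576572648, [2, 4, 6, 8, 10]), (3746384673422302, [0, 4, 5, 10]), (3749648043031773, [2]), (3751568310599725, [2, 3, 5, 6, 8]), (3751581326284714, [2, 3, 6, 9]), (3753354751707171, [2, 3, 4, 6]), (3759115699712957, [7, 8]), (3759120116968826, [2, 4, 5, 6, 8]), (3759527715570179, [0, 3, 6, 8]), (3761041466063356, [2, 8]), (3835152186214102, [0, 3, 4]), (3843684578127596, [2, 6, 9]), (3844443777550381, [0, 2, 4, 5, 6, 8]), (3844456778976922, [0, 6, 7, 8, 9]), (3845143714227719, [0, 2, 8, 10]), (3851452713822332, [0, 1, 2, 8]), (3851864776390673, [1, 5, 9, 10]),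 (3851877777921750, [0, 2, 6, 7, 8, 10]), (3855548449274646, [0, 3, 9]), (3855552860888625, [4, 6, 8]), (3858161571238833, [2, 5, 8, 9, 10]), (3863784668877786, [0, 1, 6]), (3870293979825783, [1, 2, 3, 5]), (3872067914041389, [0, 5, 6, 7, 9]), (3879831558069500, [6, 7, 9, 10]), (3887240986825767, [0, 4, 5, 6, 10]), (3890987671781903, [1, 5, 6, 7, 9]), (3893468730490886, [2, 4, 8, 9]), (3902959061089131, [0, 7]), (3902971833708268, [0, 2, 3, 4, 5, 6]), (3940735573295104, [0, 4, 6, 7, 8]), (3942660058025341, [0, 2, 4, 6, 8, 9, 10]), (3947334354625401, [0, 3, 5, 6]), (3947349487777340, [0, 2, 5, 7, 9]), (3953673046548125, [0, 2, 4, 5, 8]), (3953948201351016, [0, 2, 9, 10]), (3960183524524350, [2, 5, 7, 8, 9]), (3969276302328320, [0, 8, 9]), (3971200807891550, [3, 5, 6, 10]), (3971207149530363, [3, 9]), (3971480090132525, [0, 1, 4, 9]),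 (3973402486277846, [1, 2, 4]), (4054828842970854, [1, 4]), (4059621646668842, [0, 2, 6, 7, 10]), (4061545614987767, [2, 5, 7, 10]), (4061560743236754, [0, 2, 3, 8, 9, 10]), (4064104482930733, [0, 2, 7, 9, 10]), (4065478674286627, [4, 6, 8, 9]), (4075224930275837, [2, 3, 5, 9]), (4078800750658283, [0, 6, 7, 10]), (4118562310059755, [4, 5, 8]), (4127567560339544, [3, 4, 6]), (4129491390048277, [0, 2, 8, 9]), (4129506503358288, [0, 5, 7, 8, 10]), (4131843614117688, [0, 6]), (4141571908262586, [2, 5, 7, 8]), (4142396345802580, [2, 3, 8, 10]), (4148124430938869, [0, 3, 10]), (4160416488910900, [2, 4, 6, 7, 8]), (4160431629899681, [5]), (4162955697372542, [0, 2, 3, 5, 8]), (4164865108069110, [5, 8, 9]), (4164880032013347, [8]), (4170242150400527, [0, 5]), (4176979384257462, [5, 8, 9, 10]), (4176990046512643, [7, 9]), (4181429941711380,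 [2, 4, 6, 9]), (4181436509335265, [5, 10]), (4181711568022447, [0, 2, 4, 5, 8, 9]), (4183495181794716, [0, 5, 7, 9, 10]), (4264236525060012, [4, 8, 9]), (4264247094802939, [0, 4, 5, 6, 9]), (4265748551825121, [0, 2, 5, 6, 7, 8, 10]), (4269816901826648, [0, 1, 5, 7, 9]), (4271344155054074, [0, 2, 3, 10]), (4277226937811733, [0, 1, 4]), (4277229253330834, [0, 2, 4, 6, 8, 10]), (4279700420975660, [2, 7, 10]), (4284316485984789, [2, 5, 6, 8, 10]), (4285278922728971, [0, 2, 5, 10]), (4285293787419580, [1, 5, 6]), (4291614308752052, [0, 5, 10]), (4292493394837504, [0, 9]), (4292508608104247, [0, 2, 5, 6, 9]), (4294555326744621, [0, 3, 5, 6, 8, 10]), (4299382218944414, [1, 2, 5, 8]), (4306842315210101, [0, 5, 6]), (4320115153698822, [6, 7, 9]), (4326287425562119, [3, 5, 6, 9, 10]), (4326989876418478, [2, 5, 6, 7, 9]), (4362953942894001,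 [1, 2, 8, 9]), (4371199419620309, [0, 2, 5, 8]), (4375480252741239, [0, 5, 6, 9]), (4377265406411631, [0, 2, 5, 6, 9, 10]), (4383222296460129, [2, 5, 6, 7, 9, 10]), (4383237407743190, [0, 2, 4, 5]), (4389292830352906, [4, 8]), (4397536175798972, [3, 4, 5, 6]), (4470587524331416, [1, 2, 3]), (4475537341102779, [2, 5, 6, 10]), (4476771696089825, [1, 2, 6]), (4480196154159801, [0, 2, 5, 6, 7, 8]), (4480883035242404, [5, 7, 8]), (4482936770273755, [2, 6, 8, 9]), (4489069547697402, [0, 4, 6, 8, 9]), (4491142597228260, [5, 9]), (4491829457506010, [2, 5, 6, 8]), (4495238896020385, [2, 3, 5, 6, 8, 9]), (4496481853427128, [0, 2, 5, 6]), (4501425210610137, [0, 3, 6, 9])]),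
    (512, [(32, [3, 4, 7, 8, 9]), (48, [1, 3, 5, 6, 7, 8, 10]), (512, []), (528, [1, 4, 5, 6, 8, 10])])]

theorem checks : titsChecks cert sw gw orbits = true := by decide +kernel

theorem lin_ok : cert.linOK = true := by decide +kernel

end CfsgLib.Lie.MultExc.Tits.P2
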