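import Cfsg.Agent.Lib.Lie.MultExc.Tits.Bits
import Cfsg.Agent.Lib.Lie.MultExc.Tits.Table
import Cfsg.Agent.Lib.Lie.Chev.Tw.F4

/-!
The root elements over two elements agree with their tables.
-/

set_option autoImplicit false
set_option maxRecDepth 100000
set_option maxHeartbeats 0

namespace CfsgLib.Lie.MultExc.Tits

open Cfsg.Lie

/-- The number of a coordinate. -/
def posI : chevF4.Idx → ℕ
  | Sum.inl i => i.1
  | Sum.inr s => 4 + s.1

/-- A bit vector in the module. -/
def vecOf (c : ℕ) : chevF4.Idx → ZMod 2 := fun q => if Nat.testBit c (posI q) then 1 else 0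

/-- The root element agrees with its table. -/
def rootOK (i : ℕ) : Bool :=
  let r := rootNums.getD i 0
  let T := rootRows.getD i 0
  tableOK T &&
    (List.finRange 4).all (fun a => colEq r T (Sum.inl a)) && (List.finRange 48).all (fun a => colEq r T (Sum.inr a))
where
  /-- One column. -/
  colEq (r T : ℕ) (q : chevF4.Idx) : Bool :=
    (List.finRange 4).all (fun a => decide (chevF4.x (ZMod 2) r 1 (Sum.inl a) q = vecOf (colOf T (posI q)) (Sum.inl a))) &&
      (List.finRange 48).all (fun a => decide (chevF4.x (ZMod 2) r 1 (Sum.inr a) q = vecOf (colOf T (posI q)) (Sum.inr a)))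

end CfsgLib.Lie.MultExc.Tits
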